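import Mathlib
import Cfsg.Prelude.Def_Characters

namespace Cfsg.Agent.Lead

open scoped ComplexConjugate

theorem extendByZero_mem {G : Type*} [Group G] (H : Subgroup G) (θ : H → ℂ) {g : G} (h : g ∈ H) :
    Cfsg.extendByZero H θ g = θ ⟨g, h⟩ := by
  unfold Cfsg.extendByZero
  exact Subtype.val_injective.extend_apply θ 0 ⟨g, h⟩

theorem extendByZero_not_mem {G : Type*} [Group G] (H : Subgroup G) (θ : H → ℂ) {g : G}
    (h : g ∉ H) : Cfsg.extendByZero H θ g = 0 := by
  unfold Cfsg.extendByZero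
  rw [Function.extend_apply']
  · rfl
  · rintro ⟨a, rfl⟩; exact h a.2

theorem sum_extendByZero_mul {G : Type*} [Group G] [Fintype G] (H : Subgroup G) [Fintype H]
    (θ : H → ℂ) (f : G → ℂ) :
    ∑ g : G, Cfsg.extendByZero H θ g * f g = ∑ h : H, θ h * f h := by
  symm
  refine Finset.sum_of_injOn (Subtype.val : H → G) Subtype.val_injective.injOn (by simp)
    (fun g _ hg => ?_) (fun h _ => ?_)
  · have : g ∉ H := fun hgH => hg ⟨⟨g, hgH⟩, by simp, rfl⟩
    rw [extendByZero_not_mem H θ this, zero_mul]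
  · rw [extendByZero_mem H θ h.2]

theorem sum_extendByZero {G : Type*} [Group G] [Fintype G] (H : Subgroup G) [Fintype H]
    (θ : H → ℂ) :
    ∑ g : G, Cfsg.extendByZero H θ g = ∑ h : H, θ h := by
  simpa using sum_extendByZero_mul H θ (fun _ => 1)

/-- reindexing a sum over the group by conjugation -/
theorem sum_conj_reindex {G : Type*} [Group G] [Fintype G] (x : G) (f : G → ℂ) :
    ∑ g : G, f (x⁻¹ * g * x) = ∑ g : G, f g := by
  refine Fintype.sum_equiv (MulAut.conj x⁻¹).toEquiv _ _ (fun g => ?_)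
  simp

theorem natCard_ne_zero_complex (G : Type*) [Group G] [Finite G] : (Nat.card G : ℂ) ≠ 0 := by
  exact_mod_cast Nat.card_pos.ne'

end Cfsg.Agent.Lead
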