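import Mathlib
import Cfsg.Prelude.Def_Characters
import Cfsg.Agent.Lead.IndFun

namespace Cfsg.Agent.Lead

open scoped ComplexConjugate

/-- An induced function is a class function. -/
theorem indFun_isClassFunction {G : Type*} [Group G] [Fintype G] (H : Subgroup G) (θ : H → ℂ) :
    Cfsg.IsClassFunction G (Cfsg.indFun H θ) := by
  intro g h
  unfold Cfsg.indFun
  congr 1
  refine Fintype.sum_equiv (Equiv.mulLeft h⁻¹) _ _ (fun x => ?_)
  simp [mul_assoc]

theorem indFun_apply {G : Type*} [Group G] [Fintype G] (H : Subgroup G) (θ : H → ℂ) (g : G) :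
    Cfsg.indFun H θ g = (Nat.card H : ℂ)⁻¹ * ∑ x : G, Cfsg.extendByZero H θ (x⁻¹ * g * x) := rfl

end Cfsg.Agent.Lead
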