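import Mathlib
import Cfsg.Prelude.Def_Characters
import Cfsg.Agent.Lead.CharOdd
import Cfsg.Agent.Lead.IndFun2

namespace Cfsg.Agent.Lead

open scoped ComplexConjugate

universe u v

theorem classInner_comp_mulEquiv {H : Type u} {K : Type v} [Group H] [Group K] [Fintype H]
    [Fintype K] (e : H ≃* K) (φ ψ : K → ℂ) :
    Cfsg.classInner (φ ∘ e) (ψ ∘ e) = Cfsg.classInner φ ψ := by
  unfold Cfsg.classInner
  rw [Nat.card_congr e.toEquiv]
  congr 1
  exact Fintype.sum_equiv e.toEquiv _ _ (fun h => rfl)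

theorem isIrrCharacter_comp_mulEquiv {H : Type u} {K : Type v} [Group H] [Group K] [Finite H]
    [Finite K] (e : H ≃* K) {θ : K → ℂ} (hθ : Cfsg.IsIrrCharacter K θ) :
    Cfsg.IsIrrCharacter H (θ ∘ e) := by
  have : Fintype H := Fintype.ofFinite H
  have : Fintype K := Fintype.ofFinite K
  apply isIrrCharacter_of_classInner_eq_one
  · exact isCharacter_comp e.toMonoidHom (isCharacter_of_isIrrCharacter hθ)
  · rw [classInner_comp_mulEquiv e θ θ]
    exact classInner_self_of_isIrrCharacter hθ

/-- the conjugate of a function on a normal subgroup -/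
def conjFun {G : Type u} [Group G] (H : Subgroup G) [hN : H.Normal] (θ : H → ℂ) (g : G) :
    H → ℂ := fun h => θ ⟨g * h * g⁻¹, hN.conj_mem h h.2 g⟩

theorem conjFun_eq_comp {G : Type u} [Group G] (H : Subgroup G) [hN : H.Normal] (θ : H → ℂ)
    (g : G) : conjFun H θ g = θ ∘ (MulAut.conjNormal g : H ≃* H) := by
  funext h
  unfold conjFun
  simp only [Function.comp_apply]
  congr 1

theorem isIrrCharacter_conjFun {G : Type u} [Group G] [Finite G] (H : Subgroup G)
    [hN : H.Normal] {θ : H → ℂ} (hθ : Cfsg.IsIrrCharacter H θ) (g : G) :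
    Cfsg.IsIrrCharacter H (conjFun H θ g) := by
  rw [conjFun_eq_comp]
  exact isIrrCharacter_comp_mulEquiv _ hθ

/-- restriction to a normal subgroup of an induced function (Mackey for normal subgroups) -/
theorem indFun_res_normal {G : Type u} [Group G] [Fintype G] (H : Subgroup G) [hN : H.Normal]
    (θ : H → ℂ) :
    (fun h : H => Cfsg.indFun H θ h) = (Nat.card H : ℂ)⁻¹ • ∑ g : G, conjFun H θ g := by
  funext h
  rw [indFun_apply]
  simp only [Pi.smul_apply, Finset.sum_apply, smul_eq_mul]
  congr 1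
  refine Fintype.sum_equiv (Equiv.inv G) _ _ (fun x => ?_)
  have hm : x⁻¹ * (h : G) * x ∈ H := by
    have := hN.conj_mem h h.2 x⁻¹
    simpa using this
  rw [extendByZero_mem H θ hm]
  unfold conjFun
  congr 1
  apply Subtype.ext
  simp

end Cfsg.Agent.Lead
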