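import Mathlib
import Cfsg.Prelude.Def_Characters
import Cfsg.Agent.Lead.CharCore5
import Cfsg.Agent.Lead.CharConj
import Cfsg.Agent.S0146
import Cfsg.Agent.S0148

namespace Cfsg.Agent.Lead

open scoped ComplexConjugate

universe u

/-- Clifford: the multiplicities of the irreducible constituents of the restriction of an
irreducible character to a normal subgroup -/
theorem clifford_orbit {G : Type u} [Group G] [Fintype G] (N : Subgroup G) [Fintype N]
    [hN : N.Normal] {θ : G → ℂ} (hθ : Cfsg.IsIrrCharacter G θ) {χ : N → ℂ}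
    (hχ : Cfsg.IsIrrCharacter N χ)
    (hconst : Cfsg.classInner (fun n : N => θ n) χ ≠ 0) (ψ : Cfsg.IrrCharacter N) :
    Cfsg.classInner (fun n : N => θ n) (ψ : N → ℂ)
      = if (∃ g : G, (ψ : N → ℂ) = conjFun N χ g) then Cfsg.classInner (fun n : N => θ n) χ
        else 0 := by
  classical
  have hθcf : Cfsg.IsClassFunction G θ :=
    isCharacter_isClassFunction (isCharacter_of_isIrrCharacter hθ)
  by_cases hex : ∃ g : G, (ψ : N → ℂ) = conjFun N χ g
  · rw [if_pos hex]
    obtain ⟨g, hg⟩ := hex
    rw [hg, conjFun_eq_comp]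
    have h1 : (fun n : N => θ n) = (fun n : N => θ n) ∘ (MulAut.conjNormal g : N ≃* N) := by
      funext n
      simp only [Function.comp_apply]
      rw [MulAut.conjNormal_apply]
      exact (hθcf n g).symm
    conv_lhs => rw [h1]
    exact classInner_comp_mulEquiv _ _ _
  · rw [if_neg hex]
    have hIchar : Cfsg.IsCharacter G (Cfsg.indFun N χ) :=
      Cfsg.Agent.S0148.result N χ (isCharacter_of_isIrrCharacter hχ)
    have hIcf : Cfsg.IsClassFunction G (Cfsg.indFun N χ) := isCharacter_isClassFunction hIchar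
    have hfinG : Finite (Cfsg.IrrCharacter G) := finite_irrCharacter G
    have : Fintype (Cfsg.IrrCharacter G) := Fintype.ofFinite _
    have hdec := classFunction_eq_finsum (Cfsg.indFun N χ) hIcf
    rw [finsum_eq_sum_of_fintype] at hdec
    have ha : ∀ θ' : Cfsg.IrrCharacter G, ∃ k : ℕ,
        Cfsg.classInner (Cfsg.indFun N χ) (θ' : G → ℂ) = k :=
      fun θ' => classInner_isCharacter_nat hIchar (isCharacter_of_isIrrCharacter θ'.2)
    have hb : ∀ θ' : Cfsg.IrrCharacter G, ∃ k : ℕ,
        Cfsg.classInner (fun n : N => (θ' : G → ℂ) n) (ψ : N → ℂ) = k :=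
      fun θ' => classInner_isCharacter_nat
        (isCharacter_res N (isCharacter_of_isIrrCharacter θ'.2))
        (isCharacter_of_isIrrCharacter ψ.2)
    choose a ha using ha
    choose b hb using hb
    have hres : (fun n : N => Cfsg.indFun N χ n)
        = ∑ θ' : Cfsg.IrrCharacter G, Cfsg.classInner (Cfsg.indFun N χ) (θ' : G → ℂ) •
            (fun n : N => (θ' : G → ℂ) n) := by
      funext n
      have h0 := congrFun hdec (n : G)
      simp only [Finset.sum_apply, Pi.smul_apply] at h0 ⊢
      exact h0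
    have h1 : Cfsg.classInner (fun n : N => Cfsg.indFun N χ n) (ψ : N → ℂ)
        = ((∑ θ' : Cfsg.IrrCharacter G, a θ' * b θ' : ℕ) : ℂ) := by
      rw [hres, classInner_sum_left]
      push_cast
      refine Finset.sum_congr rfl (fun θ' _ => ?_)
      rw [classInner_smul_left, ha, hb]
    have h2 : Cfsg.classInner (fun n : N => Cfsg.indFun N χ n) (ψ : N → ℂ) = 0 := by
      rw [indFun_res_normal, classInner_smul_left, classInner_sum_left]
      rw [Finset.sum_eq_zero, mul_zero]
      intro g _
      have h0 := classInner_irr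
        (⟨conjFun N χ g, isIrrCharacter_conjFun N hχ g⟩ : Cfsg.IrrCharacter N) ψ
      rw [if_neg] at h0
      · exact h0
      · intro h
        exact hex ⟨g, (congrArg Subtype.val h).symm⟩
    rw [h1] at h2
    have h3 : ∑ θ' : Cfsg.IrrCharacter G, a θ' * b θ' = 0 := by exact_mod_cast h2
    have h4 := (Finset.sum_eq_zero_iff.mp h3) ⟨θ, hθ⟩ (Finset.mem_univ _)
    have h5 : a ⟨θ, hθ⟩ ≠ 0 := by
      intro h0
      have h6 := ha ⟨θ, hθ⟩
      rw [h0, Nat.cast_zero] at h6
      have h7 := Cfsg.Agent.S0146.result N χ θ hθcf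
      rw [h6] at h7
      have h8 := classInner_conj_symm χ (fun n : N => θ n)
      rw [← h7, map_zero] at h8
      exact hconst h8.symm
    have h9 : b ⟨θ, hθ⟩ = 0 := by
      rcases Nat.mul_eq_zero.mp h4 with h | h
      · exact absurd h h5
      · exact h
    have h10 := hb ⟨θ, hθ⟩
    rw [h9, Nat.cast_zero] at h10
    exact h10

/-- Clifford's theorem -/
theorem clifford {G : Type u} [Group G] [Fintype G] (N : Subgroup G) [Fintype N]
    [hN : N.Normal] {θ : G → ℂ} (hθ : Cfsg.IsIrrCharacter G θ) {χ : N → ℂ}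
    (hχ : Cfsg.IsIrrCharacter N χ)
    (hconst : Cfsg.classInner (fun n : N => θ n) χ ≠ 0) :
    (fun n : N => θ n) = Cfsg.classInner (fun n : N => θ n) χ •
      ∑ᶠ ψ ∈ Set.range (conjFun N χ), ψ := by
  classical
  have hfinN : Finite (Cfsg.IrrCharacter N) := finite_irrCharacter N
  have : Fintype (Cfsg.IrrCharacter N) := Fintype.ofFinite _
  have hcf : Cfsg.IsClassFunction N (fun n : N => θ n) :=
    isCharacter_isClassFunction (isCharacter_res N (isCharacter_of_isIrrCharacter hθ))
  have hdec := classFunction_eq_finsum (fun n : N => θ n) hcf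
  rw [finsum_eq_sum_of_fintype] at hdec
  have hfin : (Set.range (conjFun N χ)).Finite := Set.finite_range _
  rw [finsum_mem_eq_finite_toFinset_sum _ hfin]
  have himg : hfin.toFinset = (Finset.univ.filter
      (fun ψ : Cfsg.IrrCharacter N => ∃ g : G, (ψ : N → ℂ) = conjFun N χ g)).image
      Subtype.val := by
    ext ψ
    simp only [Set.Finite.mem_toFinset, Set.mem_range, Finset.mem_image, Finset.mem_filter,
      Finset.mem_univ, true_and]
    constructor
    · rintro ⟨g, rfl⟩
      exact ⟨⟨conjFun N χ g, isIrrCharacter_conjFun N hχ g⟩, ⟨g, rfl⟩, rfl⟩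
    · rintro ⟨ψ', ⟨g, hg⟩, rfl⟩
      exact ⟨g, hg.symm⟩
  rw [himg, Finset.sum_image (fun x _ y _ h => Subtype.ext h), Finset.smul_sum,
    Finset.sum_filter]
  conv_lhs => rw [hdec]
  refine Finset.sum_congr rfl (fun ψ _ => ?_)
  rw [clifford_orbit N hθ hχ hconst ψ]
  split_ifs with h
  · rfl
  · rw [zero_smul]

end Cfsg.Agent.Lead
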