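import Mathlib
import Cfsg.Prelude.Def_Characters
import Cfsg.Agent.Lead.CharCore5
import Cfsg.Agent.Lead.IndFun2

namespace Cfsg.Agent.Lead

open scoped ComplexConjugate

universe u v

theorem isCharacter_multiset_sum {G : Type u} [Group G] (m : Multiset (Cfsg.IrrCharacter G)) :
    Cfsg.IsCharacter G (m.map (fun ψ : Cfsg.IrrCharacter G => (ψ : G → ℂ))).sum := by
  induction m using Multiset.induction_on with
  | empty => simpa using isCharacter_zero (G := G)
  | cons a m ih =>
    rw [Multiset.map_cons, Multiset.sum_cons]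
    exact isCharacter_add (isCharacter_of_isIrrCharacter a.2) ih

/-- the degree of an induced function -/
theorem indFun_one {G : Type u} [Group G] [Fintype G] (H : Subgroup G) (θ : H → ℂ) :
    Cfsg.indFun H θ 1 = (H.index : ℂ) * θ 1 := by
  have hH : (Nat.card H : ℂ) ≠ 0 := natCard_ne_zero_complex H
  rw [indFun_apply]
  have h1 : ∀ x : G, Cfsg.extendByZero H θ (x⁻¹ * 1 * x) = θ 1 := by
    intro x
    have : x⁻¹ * 1 * x = 1 := by group
    rw [this, extendByZero_mem H θ H.one_mem]
    rfl
  simp only [h1]
  rw [Finset.sum_const, Finset.card_univ, nsmul_eq_mul, ← Nat.card_eq_fintype_card,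
    ← Subgroup.index_mul_card H]
  push_cast
  field_simp

/-- an irreducible character of a commutative group has degree one -/
theorem irrCharacter_one_of_comm {G : Type u} [Group G] [Finite G]
    (hG : ∀ a b : G, a * b = b * a) (χ : Cfsg.IrrCharacter G) : (χ : G → ℂ) 1 = 1 := by
  obtain ⟨n, σ, hi, hσ⟩ := χ.2
  have : IsMulCommutative G := ⟨⟨hG⟩⟩
  have := hi
  rw [← hσ, Representation.char_one,
    Representation.IsIrreducible.finrank_eq_one_of_isMulCommutative σ]
  simp

end Cfsg.Agent.Lead
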