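import Mathlib
import Cfsg.Prelude.Def_Characters
import Cfsg.Agent.Lead.CharCore2

namespace Cfsg.Agent.Lead

universe u v

/-- the trace is multiplicative on a one-dimensional coordinate space -/
theorem trace_mul_fin_one (f g : (Fin 1 → ℂ) →ₗ[ℂ] (Fin 1 → ℂ)) :
    LinearMap.trace ℂ (Fin 1 → ℂ) (f * g)
      = LinearMap.trace ℂ (Fin 1 → ℂ) f * LinearMap.trace ℂ (Fin 1 → ℂ) g := by
  rw [LinearMap.trace_eq_matrix_trace ℂ (Pi.basisFun ℂ (Fin 1)),
    LinearMap.trace_eq_matrix_trace ℂ (Pi.basisFun ℂ (Fin 1)) f,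
    LinearMap.trace_eq_matrix_trace ℂ (Pi.basisFun ℂ (Fin 1)) g, LinearMap.toMatrix_mul]
  simp [Matrix.trace, Matrix.mul_apply]

/-- a character of degree one is multiplicative -/
theorem isCharacter_linear_mul {G : Type u} [Group G] {ψ : G → ℂ} (hψ : Cfsg.IsCharacter G ψ)
    (h1 : ψ 1 = 1) (x y : G) : ψ (x * y) = ψ x * ψ y := by
  obtain ⟨n, ρ, rfl⟩ := hψ
  have hn : n = 1 := by
    rw [Representation.char_one, Module.finrank_fin_fun] at h1
    exact_mod_cast h1
  subst hn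
  unfold Representation.character
  rw [map_mul]
  exact trace_mul_fin_one (ρ x) (ρ y)

/-- a character of degree one is trivial on commutators -/
theorem linear_commutator_eq_one {G : Type u} [Group G] {ψ : G → ℂ}
    (hψ : Cfsg.IsCharacter G ψ) (h1 : ψ 1 = 1) (a b : G) : ψ (a * b * a⁻¹ * b⁻¹) = 1 := by
  have ha : ψ a * ψ a⁻¹ = 1 := by rw [← isCharacter_linear_mul hψ h1, mul_inv_cancel, h1]
  have hb : ψ b * ψ b⁻¹ = 1 := by rw [← isCharacter_linear_mul hψ h1, mul_inv_cancel, h1]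
  rw [isCharacter_linear_mul hψ h1, isCharacter_linear_mul hψ h1, isCharacter_linear_mul hψ h1]
  calc ψ a * ψ b * ψ a⁻¹ * ψ b⁻¹ = (ψ a * ψ a⁻¹) * (ψ b * ψ b⁻¹) := by ring
    _ = 1 := by rw [ha, hb, mul_one]

/-- evaluation of a multiset sum of irreducible characters -/
theorem multiset_irr_sum_apply {G : Type u} [Group G] (m : Multiset (Cfsg.IrrCharacter G)) (g : G) :
    (m.map (fun ψ : Cfsg.IrrCharacter G => (ψ : G → ℂ))).sum g
      = (m.map (fun ψ : Cfsg.IrrCharacter G => (ψ : G → ℂ) g)).sum := by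
  induction m using Multiset.induction_on with
  | empty => simp
  | cons a s ih => simp [ih]

end Cfsg.Agent.Lead
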