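import Mathlib
import Cfsg.Prelude.Def_Characters
import Cfsg.Agent.Lead.CharCore4
import Cfsg.Agent.Lead.CharLin

namespace Cfsg.Agent.Lead

universe u

/-- a multiplicative function is a character -/
theorem isCharacter_of_mul {A : Type u} [Group A] (ψ : A → ℂ) (h1 : ψ 1 = 1)
    (hmul : ∀ a b, ψ (a * b) = ψ a * ψ b) : Cfsg.IsCharacter A ψ := by
  let ρ : Representation ℂ A ℂ :=
    { toFun := fun a => ψ a • (LinearMap.id : ℂ →ₗ[ℂ] ℂ)
      map_one' := by rw [h1, one_smul]; rfl
      map_mul' := by
        intro a b
        ext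
        simp [hmul, mul_comm] }
  have h := isCharacter_of_rep ρ
  have h2 : ρ.character = ψ := by
    funext a
    unfold Representation.character
    show LinearMap.trace ℂ ℂ (ψ a • (LinearMap.id : ℂ →ₗ[ℂ] ℂ)) = ψ a
    rw [map_smul, LinearMap.trace_id, Module.finrank_self]
    simp
  rw [h2] at h
  exact h

/-- a character of degree one is irreducible -/
theorem isIrrCharacter_of_one {G : Type u} [Group G] [Finite G] {χ : G → ℂ}
    (h : Cfsg.IsCharacter G χ) (h1 : χ 1 = 1) : Cfsg.IsIrrCharacter G χ := by
  classical
  obtain ⟨m, rfl⟩ := exists_multiset_irr h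
  choose deg hdegpos hdeg1 using
    (fun ψ : Cfsg.IrrCharacter G => isIrrCharacter_one_eq_nat ψ.2)
  rw [multiset_irr_sum_apply] at h1
  have h2 : (m.map (fun ψ : Cfsg.IrrCharacter G => (ψ : G → ℂ) 1))
      = (m.map deg).map (fun k : ℕ => (k : ℂ)) := by
    rw [Multiset.map_map]
    exact Multiset.map_congr rfl (fun ψ _ => hdeg1 ψ)
  rw [h2, ← Nat.cast_multiset_sum] at h1
  have h3 : (m.map deg).sum = 1 := by exact_mod_cast h1
  have h4 : m.card ≤ (m.map deg).sum := by
    have hgen : ∀ s : Multiset (Cfsg.IrrCharacter G), s.card ≤ (s.map deg).sum := by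
      intro s
      induction s using Multiset.induction_on with
      | empty => simp
      | cons a s ih =>
        rw [Multiset.card_cons, Multiset.map_cons, Multiset.sum_cons]
        have := hdegpos a
        omega
    exact hgen m
  have h5 : m.card = 1 := by
    rcases Nat.eq_zero_or_pos m.card with h0 | hpos
    · rw [Multiset.card_eq_zero.mp h0] at h3; simp at h3
    · omega
  obtain ⟨a, rfl⟩ := Multiset.card_eq_one.mp h5
  simpa using a.2

/-- a character of degree one is constant on cosets of the commutator subgroup -/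
theorem linear_eq_of_commutator {G : Type u} [Group G] {χ : G → ℂ}
    (hχ : Cfsg.IsCharacter G χ) (h1 : χ 1 = 1) (x y : G) (hxy : x⁻¹ * y ∈ commutator G) :
    χ x = χ y := by
  have hmul := isCharacter_linear_mul hχ h1
  let K : Subgroup G :=
    { carrier := {x | χ x = 1}
      one_mem' := h1
      mul_mem' := by
        intro a b ha hb
        simp only [Set.mem_ofPred_eq] at *
        rw [hmul, ha, hb, mul_one]
      inv_mem' := by
        intro a ha
        simp only [Set.mem_ofPred_eq] at *
        have h2 := hmul a a⁻¹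
        rw [mul_inv_cancel, h1, ha, one_mul] at h2
        exact h2.symm }
  have hK : commutator G ≤ K := by
    rw [commutator_eq_closure, Subgroup.closure_le]
    rintro _ ⟨a, b, rfl⟩
    exact linear_commutator_eq_one hχ h1 a b
  have h2 : χ (x⁻¹ * y) = 1 := hK hxy
  have h3 : χ y = χ (x * (x⁻¹ * y)) := by rw [mul_inv_cancel_left]
  rw [h3, hmul, h2, mul_one]

end Cfsg.Agent.Lead
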