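import Mathlib
import Cfsg.Prelude.Def_Characters
import Cfsg.Agent.Lead.CharCore5
import Cfsg.Agent.Lead.CharInt
import Cfsg.Agent.Lead.CharEig
import Cfsg.Agent.S0140

namespace Cfsg.Agent.Lead

open scoped ComplexConjugate

universe u v

/-- a sum over a finite type of a fibre-invariant integral function, weighted by the inverse
fibre sizes, is integral -/
theorem sum_div_card_fiber_integral {G : Type u} {Q : Type v} [Fintype G] [DecidableEq Q]
    (π : G → Q) (F : G → ℂ) (hF : ∀ g h, π g = π h → F g = F h)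
    (hint : ∀ g, IsIntegral ℤ (F g)) :
    IsIntegral ℤ (∑ g : G, F g / ((Finset.univ.filter (fun h => π h = π g)).card : ℂ)) := by
  classical
  rw [← Finset.sum_fiberwise_of_maps_to (t := Finset.univ.image π)
    (fun i _ => Finset.mem_image_of_mem π (Finset.mem_univ i))]
  apply IsIntegral.sum
  intro q hq
  obtain ⟨g₀, -, rfl⟩ := Finset.mem_image.mp hq
  have h2 : ∑ i ∈ Finset.univ.filter (fun i => π i = π g₀),
      F i / ((Finset.univ.filter (fun h => π h = π i)).card : ℂ) = F g₀ := by
    have h1 : ∀ i ∈ Finset.univ.filter (fun i => π i = π g₀),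
        F i / ((Finset.univ.filter (fun h => π h = π i)).card : ℂ)
          = F g₀ / ((Finset.univ.filter (fun h => π h = π g₀)).card : ℂ) := by
      intro i hi
      rw [Finset.mem_filter] at hi
      rw [hF i g₀ hi.2, hi.2]
    rw [Finset.sum_congr rfl h1, Finset.sum_const, nsmul_eq_mul]
    have hne : ((Finset.univ.filter (fun h => π h = π g₀)).card : ℂ) ≠ 0 := by
      have hmem : g₀ ∈ Finset.univ.filter (fun h => π h = π g₀) := by simp
      exact_mod_cast (Finset.card_pos.mpr ⟨g₀, hmem⟩).ne'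
    field_simp
  rw [h2]; exact hint g₀

/-- central elements act by scalars in an irreducible representation -/
theorem rep_center_scalar {G : Type u} [Group G] {V : Type v} [AddCommGroup V] [Module ℂ V]
    [FiniteDimensional ℂ V] (ρ : Representation ℂ G V) (hi : ρ.IsIrreducible) {z : G}
    (hz : z ∈ Subgroup.center G) : ∃ c : ℂ, ρ z = c • LinearMap.id := by
  apply schur_scalar ρ hi
  intro g
  show ρ z * ρ g = ρ g * ρ z
  rw [← map_mul, ← map_mul, (Subgroup.mem_center_iff.mp hz g)]

/-- a scalar by which a group element acts has absolute value one -/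
theorem rep_scalar_norm {G : Type u} [Group G] [Finite G] {V : Type v} [AddCommGroup V]
    [Module ℂ V] [Nontrivial V] (ρ : Representation ℂ G V) (z : G) (c : ℂ)
    (hc : ρ z = c • LinearMap.id) : c * conj c = 1 := by
  obtain ⟨v, hv⟩ := exists_ne (0 : V)
  have h1 : ((ρ z) ^ orderOf z) v = c ^ orderOf z • v := by
    rw [hc, smul_pow]
    simp
  rw [rep_pow_orderOf] at h1
  have h2 : (c ^ orderOf z - 1) • v = 0 := by rw [sub_smul, ← h1]; simp
  have h3 : c ^ orderOf z = 1 := by
    rcases smul_eq_zero.mp h2 with h | h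
    · exact sub_eq_zero.mp h
    · exact absurd h hv
  have h4 : ‖c‖ = 1 := Complex.norm_eq_one_of_pow_eq_one h3 (orderOf_pos z).ne'
  rw [Complex.mul_conj, Complex.normSq_eq_norm_sq, h4]
  simp

/-- for a faithful irreducible representation, degree times the order of the centre divides
the group order -/
theorem degree_mul_card_center_dvd_of_faithful {G : Type u} [Group G] [Finite G] {V : Type v}
    [AddCommGroup V] [Module ℂ V] [FiniteDimensional ℂ V] (ρ : Representation ℂ G V)
    (hi : ρ.IsIrreducible) (hinj : Function.Injective ρ) :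
    Module.finrank ℂ V * Nat.card (Subgroup.center G) ∣ Nat.card G := by
  classical
  have : Fintype G := Fintype.ofFinite G
  have hnt : Nontrivial V := ((isIrreducible_iff ρ).mp hi).1
  have hd : (Module.finrank ℂ V : ℂ) ≠ 0 := by
    exact_mod_cast (Module.finrank_pos (R := ℂ) (M := V)).ne'
  set χ : G → ℂ := ρ.character with hχ
  have hsc : ∀ z ∈ Subgroup.center G, ∃ c : ℂ, ρ z = c • LinearMap.id ∧ c * conj c = 1 ∧
      ∀ g, χ (g * z) = c * χ g := by
    intro z hz
    obtain ⟨c, hc⟩ := rep_center_scalar ρ hi hz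
    refine ⟨c, hc, rep_scalar_norm ρ z c hc, fun g => ?_⟩
    rw [hχ]; unfold Representation.character
    rw [map_mul, hc]
    show LinearMap.trace ℂ V (ρ g * (c • (1 : Module.End ℂ V))) = _
    rw [mul_smul_comm, mul_one, map_smul, smul_eq_mul]
  have hclass : ∀ g x : G, χ (x * g * x⁻¹) = χ g := fun g x => Representation.char_conj ρ g x
  have hfree : ∀ g : G, χ g ≠ 0 → ∀ z ∈ Subgroup.center G, IsConj g (g * z) → z = 1 := by
    intro g hg z hz hconj
    obtain ⟨c, hc, -, hmul⟩ := hsc z hz
    obtain ⟨x, hx⟩ := isConj_iff.mp hconj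
    have h1 : χ (g * z) = χ g := by rw [← hx, hclass]
    rw [hmul] at h1
    have hc1 : c = 1 := by
      have h0 : (c - 1) * χ g = 0 := by rw [sub_mul, h1, one_mul, sub_self]
      rcases mul_eq_zero.mp h0 with h | h
      · exact sub_eq_zero.mp h
      · exact absurd h hg
    apply hinj
    rw [hc, hc1, one_smul, map_one]; rfl
  let π : G → ConjClasses (G ⧸ Subgroup.center G) :=
    fun g => ConjClasses.mk (QuotientGroup.mk g)
  have hπ : ∀ g h : G, π g = π h ↔ ∃ x : G, ∃ z ∈ Subgroup.center G, h = x * g * x⁻¹ * z := by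
    intro g h
    show ConjClasses.mk _ = ConjClasses.mk _ ↔ _
    rw [ConjClasses.mk_eq_mk_iff_isConj, isConj_iff]
    constructor
    · rintro ⟨c, hc⟩
      obtain ⟨x, rfl⟩ := QuotientGroup.mk_surjective c
      have h1 : ((x * g * x⁻¹ : G) : G ⧸ Subgroup.center G) = (h : G ⧸ Subgroup.center G) := by
        rw [← hc]; rfl
      have h2 := QuotientGroup.eq.mp h1
      exact ⟨x, (x * g * x⁻¹)⁻¹ * h, h2, by group⟩
    · rintro ⟨x, z, hz, rfl⟩
      refine ⟨QuotientGroup.mk x, ?_⟩
      have h3 : ((x * g * x⁻¹ * z : G) : G ⧸ Subgroup.center G)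
          = ((x * g * x⁻¹ : G) : G ⧸ Subgroup.center G) := by
        rw [QuotientGroup.eq]
        have h4 : (x * g * x⁻¹ * z)⁻¹ * (x * g * x⁻¹) = z⁻¹ := by group
        rw [h4]; exact inv_mem hz
      rw [h3]; rfl
  have hidx : ∀ g x : G, ∀ z ∈ Subgroup.center G,
      (Subgroup.centralizer ({x * g * x⁻¹ * z} : Set G)).index
        = (Subgroup.centralizer ({g} : Set G)).index := by
    intro g x z hz
    rw [← card_filter_isConj_eq_index, ← card_filter_isConj_eq_index]
    apply Finset.card_bij (fun y _ => y * z⁻¹)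
    · intro y hy
      rw [Finset.mem_filter] at hy ⊢
      refine ⟨Finset.mem_univ _, ?_⟩
      obtain ⟨w, hw⟩ := isConj_iff.mp hy.2
      refine isConj_iff.mpr ⟨w * x, ?_⟩
      rw [← hw]
      have hzc := Subgroup.mem_center_iff.mp hz w⁻¹
      calc w * x * g * (w * x)⁻¹ = w * (x * g * x⁻¹) * w⁻¹ := by group
        _ = w * (x * g * x⁻¹) * (w⁻¹ * z) * z⁻¹ := by group
        _ = w * (x * g * x⁻¹) * (z * w⁻¹) * z⁻¹ := by rw [hzc]
        _ = w * (x * g * x⁻¹ * z) * w⁻¹ * z⁻¹ := by group
    · intro y _ y' _ h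
      exact mul_right_cancel h
    · intro y' hy'
      rw [Finset.mem_filter] at hy'
      obtain ⟨w, hw⟩ := isConj_iff.mp hy'.2
      refine ⟨y' * z, ?_, by group⟩
      rw [Finset.mem_filter]
      refine ⟨Finset.mem_univ _, isConj_iff.mpr ⟨w * x⁻¹, ?_⟩⟩
      rw [← hw]
      calc (w * x⁻¹) * (x * g * x⁻¹ * z) * (w * x⁻¹)⁻¹ = w * g * (x⁻¹ * z) * x * w⁻¹ := by group
        _ = w * g * (z * x⁻¹) * x * w⁻¹ := by rw [Subgroup.mem_center_iff.mp hz x⁻¹]
        _ = w * g * (z * w⁻¹) := by group
        _ = w * g * (w⁻¹ * z) := by rw [← Subgroup.mem_center_iff.mp hz w⁻¹]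
        _ = w * g * w⁻¹ * z := by group
  let F : G → ℂ := fun g => ((Subgroup.centralizer ({g} : Set G)).index : ℂ) * χ g
    / (Module.finrank ℂ V : ℂ) * conj (χ g)
  have hFinv : ∀ g h, π g = π h → F g = F h := by
    intro g h hgh
    obtain ⟨x, z, hz, rfl⟩ := (hπ g h).mp hgh
    obtain ⟨c, -, hcc, hmul⟩ := hsc z hz
    simp only [F]
    rw [hidx g x z hz, hmul, hclass, map_mul (starRingEnd ℂ)]
    linear_combination (-((Subgroup.centralizer ({g} : Set G)).index : ℂ) * χ g
      / (Module.finrank ℂ V : ℂ) * conj (χ g)) * hcc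
  have hFint : ∀ g, IsIntegral ℤ (F g) := by
    intro g
    apply IsIntegral.mul (isIntegral_classSize_mul_char_div_degree ρ hi g)
    rw [hχ, ← character_inv ρ g]
    exact Cfsg.Agent.S0140.result ρ g⁻¹
  have hZ : Nat.card (Subgroup.center G)
      = (Finset.univ.filter (fun z : G => z ∈ Subgroup.center G)).card := by
    rw [Nat.card_eq_fintype_card, ← Fintype.card_subtype]
  have hfiber : ∀ g, χ g ≠ 0 → (Finset.univ.filter (fun h => π h = π g)).card
      = (Subgroup.centralizer ({g} : Set G)).index * Nat.card (Subgroup.center G) := by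
    intro g hg
    rw [← card_filter_isConj_eq_index, hZ, ← Finset.card_product]
    symm
    apply Finset.card_bij (fun p _ => p.1 * p.2)
    · rintro ⟨c, z⟩ hp
      rw [Finset.mem_product, Finset.mem_filter, Finset.mem_filter] at hp
      obtain ⟨⟨-, hc⟩, -, hz⟩ := hp
      dsimp only at hc hz
      obtain ⟨x, hx⟩ := isConj_iff.mp hc
      rw [Finset.mem_filter]
      refine ⟨Finset.mem_univ _, ?_⟩
      exact ((hπ g (c * z)).mpr ⟨x, z, hz, by rw [hx]⟩).symm
    · rintro ⟨c, z⟩ hp ⟨c', z'⟩ hp' heq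
      rw [Finset.mem_product, Finset.mem_filter, Finset.mem_filter] at hp hp'
      obtain ⟨⟨-, hc⟩, -, hz⟩ := hp
      obtain ⟨⟨-, hc'⟩, -, hz'⟩ := hp'
      dsimp only at hc hz hc' hz' heq
      have hz'' : z * z'⁻¹ ∈ Subgroup.center G := mul_mem hz (inv_mem hz')
      have hc'' : c' = c * (z * z'⁻¹) := by rw [← mul_assoc, heq]; group
      obtain ⟨w, hw⟩ := isConj_iff.mp hc
      have h1 : IsConj (g * (z * z'⁻¹)) c' := by
        rw [hc'']
        refine isConj_iff.mpr ⟨w, ?_⟩
        rw [← hw]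
        have hzc := Subgroup.mem_center_iff.mp hz'' w⁻¹
        calc w * (g * (z * z'⁻¹)) * w⁻¹ = w * g * ((z * z'⁻¹) * w⁻¹) := by group
          _ = w * g * (w⁻¹ * (z * z'⁻¹)) := by rw [hzc]
          _ = w * g * w⁻¹ * (z * z'⁻¹) := by group
      have h2 : IsConj g (g * (z * z'⁻¹)) := hc'.trans h1.symm
      have h3 := hfree g hg _ hz'' h2
      have hzz : z = z' := by rw [← mul_inv_eq_one]; exact h3
      subst hzz
      have hcc : c = c' := mul_right_cancel heq
      rw [hcc]
    · intro h hh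
      rw [Finset.mem_filter] at hh
      obtain ⟨x, z, hz, rfl⟩ := (hπ g h).mp hh.2.symm
      refine ⟨(x * g * x⁻¹, z), ?_, rfl⟩
      rw [Finset.mem_product, Finset.mem_filter, Finset.mem_filter]
      exact ⟨⟨Finset.mem_univ _, isConj_iff.mpr ⟨x, rfl⟩⟩, Finset.mem_univ _, hz⟩
  have hnorm : ∑ g : G, χ g * conj (χ g) = (Nat.card G : ℂ) := by
    have h3 := classInner_self_of_isIrrCharacter (isIrrCharacter_of_rep ρ hi)
    unfold Cfsg.classInner at h3
    have hG : (Nat.card G : ℂ) ≠ 0 := by exact_mod_cast Nat.card_pos.ne'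
    field_simp at h3
    exact h3
  have hterm : ∀ g : G, χ g * conj (χ g) = (Module.finrank ℂ V : ℂ)
      * (Nat.card (Subgroup.center G) : ℂ)
      * (F g / ((Finset.univ.filter (fun h => π h = π g)).card : ℂ)) := by
    intro g
    by_cases hg : χ g = 0
    · simp [F, hg]
    · rw [hfiber g hg]
      have hidx0 : ((Subgroup.centralizer ({g} : Set G)).index : ℂ) ≠ 0 := by
        exact_mod_cast Subgroup.index_ne_zero_of_finite
      have hZ0 : (Nat.card (Subgroup.center G) : ℂ) ≠ 0 := by
        exact_mod_cast Nat.card_pos.ne'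
      simp only [F]
      push_cast
      field_simp
  have hint := sum_div_card_fiber_integral π F hFinv hFint
  have hfinal : ((Nat.card G : ℕ) : ℂ)
      / ((Module.finrank ℂ V * Nat.card (Subgroup.center G) : ℕ) : ℂ)
      = ∑ g : G, F g / ((Finset.univ.filter (fun h => π h = π g)).card : ℂ) := by
    have hZ0 : (Nat.card (Subgroup.center G) : ℂ) ≠ 0 := by
      exact_mod_cast Nat.card_pos.ne'
    rw [← hnorm, Finset.sum_congr rfl (fun g _ => hterm g), ← Finset.mul_sum]
    push_cast
    field_simp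
  rw [← hfinal] at hint
  exact nat_dvd_of_isIntegral_div
    (Nat.mul_ne_zero (Module.finrank_pos (R := ℂ) (M := V)).ne' Nat.card_pos.ne') hint

/-- the degree of an irreducible representation divides the index of the centre -/
theorem degree_dvd_index_center {G : Type u} [Group G] [Finite G] {V : Type v}
    [AddCommGroup V] [Module ℂ V] [FiniteDimensional ℂ V] (ρ : Representation ℂ G V)
    (hi : ρ.IsIrreducible) : Module.finrank ℂ V ∣ (Subgroup.center G).index := by
  let K : Subgroup G := MonoidHom.ker ρ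
  have hKn : K.Normal := MonoidHom.normal_ker ρ
  let ρ' : Representation ℂ (G ⧸ K) V := QuotientGroup.lift K ρ (le_refl _)
  have hρ' : ∀ x : G, ρ' (QuotientGroup.mk x) = ρ x := fun x => rfl
  have hinj : Function.Injective ρ' := by
    intro a b hab
    obtain ⟨x, rfl⟩ := QuotientGroup.mk_surjective a
    obtain ⟨y, rfl⟩ := QuotientGroup.mk_surjective b
    rw [hρ', hρ'] at hab
    rw [QuotientGroup.eq]
    show x⁻¹ * y ∈ MonoidHom.ker ρ
    rw [MonoidHom.mem_ker, map_mul, ← hab, ← map_mul, inv_mul_cancel, map_one]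
  have hi' : ρ'.IsIrreducible := by
    rw [isIrreducible_iff] at hi ⊢
    refine ⟨hi.1, fun W hW => hi.2 W (fun g v hv => ?_)⟩
    have h0 := hW (QuotientGroup.mk g) v hv
    rwa [hρ'] at h0
  have h1 := degree_mul_card_center_dvd_of_faithful ρ' hi' hinj
  have h2 : Module.finrank ℂ V ∣ (Subgroup.center (G ⧸ K)).index := by
    rw [← Subgroup.index_mul_card (Subgroup.center (G ⧸ K))] at h1
    exact Nat.dvd_of_mul_dvd_mul_right Nat.card_pos h1
  have h3 : ((Subgroup.center (G ⧸ K)).comap (QuotientGroup.mk' K)).index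
      = (Subgroup.center (G ⧸ K)).index :=
    Subgroup.index_comap_of_surjective _ (QuotientGroup.mk'_surjective K)
  have h4 : Subgroup.center G ≤ (Subgroup.center (G ⧸ K)).comap (QuotientGroup.mk' K) := by
    intro z hz
    rw [Subgroup.mem_comap, Subgroup.mem_center_iff]
    intro a
    obtain ⟨x, rfl⟩ := QuotientGroup.mk_surjective a
    show (QuotientGroup.mk (x * z) : G ⧸ K) = QuotientGroup.mk (z * x)
    rw [Subgroup.mem_center_iff.mp hz x]
  exact h2.trans (h3 ▸ Subgroup.index_dvd_of_le h4)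

end Cfsg.Agent.Lead
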