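import Mathlib
import Cfsg.Prelude.Def_Characters
import Cfsg.Agent.Lead.CharConj

namespace Cfsg.Agent.Lead

open scoped ComplexConjugate

universe u v

theorem classInner_conj_conj {G : Type u} [Group G] [Fintype G] (φ ψ : G → ℂ) :
    Cfsg.classInner (fun g => conj (φ g)) (fun g => conj (ψ g)) = Cfsg.classInner ψ φ := by
  unfold Cfsg.classInner
  congr 1
  refine Finset.sum_congr rfl (fun g _ => ?_)
  rw [Complex.conj_conj, mul_comm]

/-- the complex conjugate of an irreducible character is irreducible -/
theorem isIrrCharacter_conj {G : Type u} [Group G] [Finite G] {θ : G → ℂ}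
    (hθ : Cfsg.IsIrrCharacter G θ) : Cfsg.IsIrrCharacter G (fun g => conj (θ g)) := by
  have : Fintype G := Fintype.ofFinite G
  apply isIrrCharacter_of_classInner_eq_one (isCharacter_conj (isCharacter_of_isIrrCharacter hθ))
  rw [classInner_conj_conj]
  exact classInner_self_of_isIrrCharacter hθ

theorem conjFun_conjFun {G : Type u} [Group G] (H : Subgroup G) [hN : H.Normal] (θ : H → ℂ)
    (a b : G) : conjFun H (conjFun H θ a) b = conjFun H θ (a * b) := by
  funext h
  unfold conjFun
  congr 1
  apply Subtype.ext
  simp [mul_assoc]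

theorem conjFun_one {G : Type u} [Group G] (H : Subgroup G) [hN : H.Normal] (θ : H → ℂ) :
    conjFun H θ 1 = θ := by
  funext h
  unfold conjFun
  congr 1
  apply Subtype.ext
  simp

theorem conjFun_pow_of_fixed {G : Type u} [Group G] (H : Subgroup G) [hN : H.Normal]
    (θ : H → ℂ) (x : G) (hx : conjFun H θ x = θ) (n : ℕ) : conjFun H θ (x ^ n) = θ := by
  induction n with
  | zero => rw [pow_zero]; exact conjFun_one H θ
  | succ n ih => rw [pow_succ, ← conjFun_conjFun, ih, hx]

theorem conjFun_conj {G : Type u} [Group G] (H : Subgroup G) [hN : H.Normal] (θ : H → ℂ)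
    (g : G) : conjFun H (fun h => conj (θ h)) g = fun h => conj (conjFun H θ g h) := rfl

/-- induction commutes with complex conjugation -/
theorem indFun_conj {G : Type u} [Group G] [Fintype G] (H : Subgroup G) (θ : H → ℂ) :
    (fun g => conj (Cfsg.indFun H θ g)) = Cfsg.indFun H (fun h => conj (θ h)) := by
  classical
  funext g
  rw [indFun_apply, indFun_apply, map_mul (starRingEnd ℂ), map_inv₀ (starRingEnd ℂ),
    Complex.conj_natCast, map_sum (starRingEnd ℂ)]
  congr 1
  refine Finset.sum_congr rfl (fun x _ => ?_)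
  by_cases hm : x⁻¹ * g * x ∈ H
  · rw [extendByZero_mem H θ hm, extendByZero_mem H _ hm]
  · rw [extendByZero_not_mem H θ hm, extendByZero_not_mem H _ hm, map_zero]

end Cfsg.Agent.Lead
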