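import Mathlib

namespace Cfsg.Agent.Lead

variable {G : Type*} [Group G]

/-- If every point stabiliser of an action of a finite group on a finite set has index `k`,
then `k` divides the size of the set. -/
theorem dvd_card_of_index_stabilizer {X : Type*} [Finite G] [MulAction G X] [Finite X] (k : ℕ)
    (h : ∀ x : X, (MulAction.stabilizer G x).index = k) : k ∣ Nat.card X := by
  classical
  have e := MulAction.selfEquivSigmaOrbitsQuotientStabilizer G X
  rw [Nat.card_congr e]
  haveI : Fintype (Quotient (MulAction.orbitRel G X)) := Fintype.ofFinite _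
  rw [Nat.card_sigma]
  have h1 : ∀ ω : Quotient (MulAction.orbitRel G X),
      Nat.card (G ⧸ MulAction.stabilizer G ω.out) = k := fun ω => h ω.out
  simp_rw [h1]
  rw [Finset.sum_const, smul_eq_mul]
  exact dvd_mul_left _ _

/-- The conjugation action of a subgroup `N` on a subset `S` stable under conjugation by `N`. -/
@[reducible] def conjActOn (N : Subgroup G) (S : Set G) (hS : ∀ n ∈ N, ∀ s ∈ S, n * s * n⁻¹ ∈ S) :
    MulAction N S where
  smul n s := ⟨n * s * (n : G)⁻¹, hS n n.2 s s.2⟩
  one_smul s := by apply Subtype.ext; show ((1 : N) : G) * s * ((1 : N) : G)⁻¹ = s; simp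
  mul_smul a b s := by
    apply Subtype.ext
    show ((a * b : N) : G) * s * ((a * b : N) : G)⁻¹ = a * (b * s * (b : G)⁻¹) * (a : G)⁻¹
    simp [mul_assoc]

theorem conjActOn_smul_coe (N : Subgroup G) (S : Set G) (hS : ∀ n ∈ N, ∀ s ∈ S, n * s * n⁻¹ ∈ S)
    (n : N) (s : S) : (((conjActOn N S hS).smul n s : S) : G) = n * s * (n : G)⁻¹ := rfl

end Cfsg.Agent.Lead
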