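import Mathlib
import Cfsg.Prelude.Def_Solvable
import Cfsg.Agent.Lead.FreeAction

namespace Cfsg.Agent.Lead

open scoped Pointwise

variable {G : Type*} [Group G]

theorem mem_conj_smul_iff' {g x : G} {H : Subgroup G} :
    x ∈ MulAut.conj g • H ↔ g⁻¹ * x * g ∈ H := by
  rw [Subgroup.mem_pointwise_smul_iff_inv_smul_mem]
  simp [MulAut.smul_def]

/-- The non-identity elements of the conjugate of `H` by (a representative of) a coset. -/
def frobFiber (H : Subgroup G) (q : G ⧸ H) : Set G :=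
  {x | x ≠ 1 ∧ q.out⁻¹ * x * q.out ∈ H}

theorem frobFiber_ncard [Finite G] (H : Subgroup G) (q : G ⧸ H) :
    (frobFiber H q).ncard = Nat.card H - 1 := by
  have h1 : frobFiber H q = (fun y => q.out * y * q.out⁻¹) '' ((H : Set G) \ {1}) := by
    ext x
    constructor
    · rintro ⟨hx1, hx⟩
      refine ⟨q.out⁻¹ * x * q.out, ⟨hx, ?_⟩, by group⟩
      intro h
      apply hx1
      have h' : q.out⁻¹ * x * q.out = 1 := h
      have e : x = q.out * (q.out⁻¹ * x * q.out) * q.out⁻¹ := by group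
      rw [e, h']; group
    · rintro ⟨y, ⟨hy, hy1⟩, rfl⟩
      refine ⟨?_, ?_⟩
      · intro h
        apply hy1
        have h' : q.out * y * q.out⁻¹ = 1 := h
        have e : y = q.out⁻¹ * (q.out * y * q.out⁻¹) * q.out := by group
        rw [e, h']; simp
      · have e : q.out⁻¹ * (q.out * y * q.out⁻¹) * q.out = y := by group
        show q.out⁻¹ * (q.out * y * q.out⁻¹) * q.out ∈ H
        rw [e]; exact hy
  rw [h1, Set.ncard_image_of_injective, Set.ncard_sdiff_singleton_of_mem (Subgroup.one_mem H)]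
  · rfl
  · intro a b hab
    have hab' : q.out * a * q.out⁻¹ = q.out * b * q.out⁻¹ := hab
    have := congrArg (fun z => q.out⁻¹ * z * q.out) hab'
    simpa [mul_assoc] using this

theorem frobFiber_disjoint (H : Subgroup G) (hH : Cfsg.IsFrobeniusComplement H) {q q' : G ⧸ H}
    {x : G} (hx : x ∈ frobFiber H q) (hx' : x ∈ frobFiber H q') : q = q' := by
  obtain ⟨hx1, hxq⟩ := hx
  obtain ⟨-, hxq'⟩ := hx'
  rw [← q.out_eq', ← q'.out_eq']
  apply QuotientGroup.eq.mpr
  by_contra ht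
  have h2 := hH.2.2 _ ht
  have h3 : q.out⁻¹ * x * q.out ∈ H ⊓ MulAut.conj (q.out⁻¹ * q'.out) • H := by
    refine Subgroup.mem_inf.mpr ⟨hxq, ?_⟩
    rw [mem_conj_smul_iff']
    have e : (q.out⁻¹ * q'.out)⁻¹ * (q.out⁻¹ * x * q.out) * (q.out⁻¹ * q'.out) =
        q'.out⁻¹ * x * q'.out := by group
    rw [e]; exact hxq'
  rw [h2, Subgroup.mem_bot] at h3
  apply hx1
  have e : x = q.out * (q.out⁻¹ * x * q.out) * q.out⁻¹ := by group
  rw [e, h3]; group

theorem frobeniusKernel_compl (H : Subgroup G) :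
    (Cfsg.frobeniusKernel H)ᶜ = ⋃ q : G ⧸ H, frobFiber H q := by
  ext x
  simp only [Cfsg.frobeniusKernel, Set.mem_compl_iff, Set.mem_ofPred_eq, not_or, not_forall,
    not_not, Set.mem_iUnion, frobFiber]
  constructor
  · rintro ⟨hx1, g, hg⟩
    refine ⟨(g : G ⧸ H), hx1, ?_⟩
    rw [mem_conj_smul_iff'] at hg
    have hq : (g : G)⁻¹ * ((g : G ⧸ H)).out ∈ H := QuotientGroup.eq.mp ((g : G ⧸ H).out_eq').symm
    have e : ((g : G ⧸ H)).out⁻¹ * x * ((g : G ⧸ H)).out =
        (g⁻¹ * ((g : G ⧸ H)).out)⁻¹ * (g⁻¹ * x * g) * (g⁻¹ * ((g : G ⧸ H)).out) := by group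
    rw [e]
    exact H.mul_mem (H.mul_mem (H.inv_mem hq) hg) hq
  · rintro ⟨q, hx1, hq⟩
    exact ⟨hx1, q.out, mem_conj_smul_iff'.mpr hq⟩

theorem card_frobeniusKernel_compl [Finite G] (H : Subgroup G)
    (hH : Cfsg.IsFrobeniusComplement H) :
    ((Cfsg.frobeniusKernel H)ᶜ).ncard = H.index * (Nat.card H - 1) := by
  classical
  haveI : Fintype (G ⧸ H) := Fintype.ofFinite _
  rw [frobeniusKernel_compl]
  have e : (Σ q : G ⧸ H, frobFiber H q) ≃ (⋃ q : G ⧸ H, frobFiber H q : Set G) :=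
    Equiv.ofBijective (fun z => ⟨z.2.1, Set.mem_iUnion.mpr ⟨z.1, z.2.2⟩⟩) (by
      constructor
      · rintro ⟨q, x, hx⟩ ⟨q', x', hx'⟩ h
        have hxx : x = x' := congrArg Subtype.val h
        subst hxx
        have hq := frobFiber_disjoint H hH hx hx'
        subst hq
        rfl
      · rintro ⟨x, hx⟩
        obtain ⟨q, hq⟩ := Set.mem_iUnion.mp hx
        exact ⟨⟨q, x, hq⟩, rfl⟩)
  rw [← Nat.card_coe_set_eq, ← Nat.card_congr e, Nat.card_sigma]
  simp_rw [Nat.card_coe_set_eq, frobFiber_ncard]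
  rw [Finset.sum_const, smul_eq_mul, Finset.card_univ, ← Nat.card_eq_fintype_card]
  rfl

theorem card_frobeniusKernel [Finite G] (H : Subgroup G) (hH : Cfsg.IsFrobeniusComplement H) :
    Nat.card (Cfsg.frobeniusKernel H) = H.index := by
  have h1 := Set.ncard_add_ncard_compl (Cfsg.frobeniusKernel H)
  rw [card_frobeniusKernel_compl H hH, ← H.card_mul_index] at h1
  rw [Nat.card_coe_set_eq]
  have hpos : 0 < Nat.card H := Nat.card_pos
  have h2 : Nat.card H * H.index = H.index + H.index * (Nat.card H - 1) := by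
    obtain ⟨m, hm⟩ : ∃ m, Nat.card H = m + 1 := ⟨Nat.card H - 1, by omega⟩
    rw [hm]; simp; ring
  rw [h2] at h1
  exact Nat.add_right_cancel h1

theorem frobeniusKernel_conj_mem (H : Subgroup G) {x : G} (hx : x ∈ Cfsg.frobeniusKernel H \ {1})
    (h : G) : h * x * h⁻¹ ∈ Cfsg.frobeniusKernel H \ {1} := by
  obtain ⟨hxK, hx1⟩ := hx
  have hx1' : x ≠ 1 := hx1
  have hxK' : ∀ g : G, x ∉ MulAut.conj g • H := hxK.resolve_left hx1'
  refine ⟨Or.inr ?_, ?_⟩
  · intro g hg
    apply hxK' (h⁻¹ * g)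
    rw [mem_conj_smul_iff'] at hg ⊢
    have e : (h⁻¹ * g)⁻¹ * x * (h⁻¹ * g) = g⁻¹ * (h * x * h⁻¹) * g := by group
    rw [e]; exact hg
  · intro h1
    apply hx1'
    have h1' : h * x * h⁻¹ = 1 := h1
    have e : x = h⁻¹ * (h * x * h⁻¹) * h := by group
    rw [e, h1']; group

theorem card_dvd_card_frobeniusKernel_sub_one [Finite G] (H : Subgroup G)
    (hH : Cfsg.IsFrobeniusComplement H) :
    Nat.card H ∣ Nat.card (Cfsg.frobeniusKernel H) - 1 := by
  classical
  have hS : ∀ n ∈ H, ∀ s ∈ (Cfsg.frobeniusKernel H \ {1}), n * s * n⁻¹ ∈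
      (Cfsg.frobeniusKernel H \ {1}) := fun n _ s hs => frobeniusKernel_conj_mem H hs n
  letI := conjActOn H (Cfsg.frobeniusKernel H \ {1}) hS
  have hstab : ∀ s : (Cfsg.frobeniusKernel H \ {1} : Set G),
      (MulAction.stabilizer H s).index = Nat.card H := by
    intro s
    have hbot : MulAction.stabilizer H s = ⊥ := by
      rw [eq_bot_iff]
      intro n hn
      rw [MulAction.mem_stabilizer_iff] at hn
      have h1 : (n : G) * s * (n : G)⁻¹ = s := congrArg Subtype.val hn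
      have hs1 : (s : G) ≠ 1 := fun h => s.2.2 h
      have hsK : ∀ g : G, (s : G) ∉ MulAut.conj g • H := s.2.1.resolve_left hs1
      have hsH : (s : G) ∉ H := by
        intro hsH
        apply hsK 1
        rw [mem_conj_smul_iff']
        simpa using hsH
      have h2 := hH.2.2 _ hsH
      have h3 : (n : G) ∈ H ⊓ MulAut.conj (s : G) • H := by
        refine Subgroup.mem_inf.mpr ⟨n.2, ?_⟩
        rw [mem_conj_smul_iff']
        have e : (s : G)⁻¹ * (n : G) * s = (n : G) := by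
          have e2 : (s : G) = (n : G)⁻¹ * ((n : G) * s * (n : G)⁻¹) * n := by group
          rw [h1] at e2
          calc (s : G)⁻¹ * (n : G) * s = (s : G)⁻¹ * n * ((n : G)⁻¹ * s * n) := by rw [← e2]
            _ = n := by group
        rw [e]; exact n.2
      rw [h2, Subgroup.mem_bot] at h3
      rw [Subgroup.mem_bot]
      exact Subtype.ext h3
    rw [hbot, Subgroup.index_bot]
  have hdvd := dvd_card_of_index_stabilizer (G := H)
    (X := (Cfsg.frobeniusKernel H \ {1} : Set G)) _ hstab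
  have hcard : Nat.card (Cfsg.frobeniusKernel H \ {1} : Set G) =
      Nat.card (Cfsg.frobeniusKernel H) - 1 := by
    rw [Nat.card_coe_set_eq, Nat.card_coe_set_eq,
      Set.ncard_sdiff_singleton_of_mem (show (1 : G) ∈ Cfsg.frobeniusKernel H from Or.inl rfl)]
  rw [hcard] at hdvd
  exact hdvd

end Cfsg.Agent.Lead
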