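import Mathlib
import Cfsg.Agent.Lead.CoprimeAbelian
import Cfsg.Agent.Lead.GenCent

namespace Cfsg.Agent.Lead

open scoped IsMulCommutative

/-- A group acting without nonidentity fixed points has order prime to the order of the group acted on. -/
theorem fpf_coprime {G : Type*} [Group G] [Finite G] (A V : Subgroup G)
    (hAV : A ≤ Subgroup.normalizer (V : Set G))
    (hfpf : ∀ a ∈ A, a ≠ 1 → V ⊓ Subgroup.centralizer {a} = ⊥) :
    (Nat.card A).Coprime (Nat.card V) := by
  classical
  by_contra hcon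
  obtain ⟨r, hr, hrA, hrV⟩ := Nat.Prime.not_coprime_iff_dvd.mp hcon
  haveI : Fact r.Prime := ⟨hr⟩
  obtain ⟨a, ha⟩ := exists_prime_orderOf_dvd_card' r hrA
  have ha1 : (a : G) ≠ 1 := by
    intro h1
    have : a = 1 := Subtype.ext h1
    rw [this, orderOf_one] at ha
    exact hr.one_lt.ne ha
  have har : (a : G) ^ r = 1 := by
    have := pow_orderOf_eq_one a
    rw [ha] at this
    exact_mod_cast congrArg Subtype.val this
  let f : Function.End V := fun v => cjHom A V hAV a v
  have hfn : ∀ n : ℕ, ∀ v : V, ((f ^ n) v : G) = (a : G) ^ n * v * ((a : G) ^ n)⁻¹ := by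
    intro n
    induction n with
    | zero =>
      intro v
      rw [pow_zero]
      show (v : G) = (a : G) ^ 0 * v * ((a : G) ^ 0)⁻¹
      simp
    | succ n ih =>
      intro v
      rw [pow_succ']
      have e : ((f * f ^ n) v : V) = f ((f ^ n) v) := rfl
      rw [e]
      have e2 : ((f ((f ^ n) v) : V) : G) = a * ((f ^ n) v : G) * (a : G)⁻¹ := rfl
      rw [e2, ih v, pow_succ']
      group
  have hf : f ^ r ^ 1 = 1 := by
    rw [pow_one]
    funext v
    apply Subtype.ext
    show ((f ^ r) v : G) = (v : G)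
    rw [hfn, har]; simp
  haveI : Fintype V := Fintype.ofFinite V
  have hmod := Equiv.Perm.card_fixedPoints_modEq (p := r) (n := 1) hf
  rw [← Nat.card_eq_fintype_card, ← Nat.card_eq_fintype_card] at hmod
  have hfix : Nat.card (Function.fixedPoints f) = 1 := by
    rw [Nat.card_eq_one_iff_exists]
    refine ⟨⟨1, ?_⟩, ?_⟩
    · show f 1 = 1
      exact map_one (cjHom A V hAV a)
    · rintro ⟨v, hv⟩
      apply Subtype.ext
      have hv' : f v = v := hv
      have h1 : (v : G) ∈ V ⊓ Subgroup.centralizer {(a : G)} := by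
        refine Subgroup.mem_inf.mpr ⟨v.2, ?_⟩
        rw [Subgroup.mem_centralizer_singleton_iff]
        have h2 : (a : G) * v * (a : G)⁻¹ = v := congrArg Subtype.val hv'
        calc (v : G) * a = ((a : G) * v * (a : G)⁻¹) * a := by rw [h2]
          _ = a * v := by group
      rw [hfpf a a.2 ha1, Subgroup.mem_bot] at h1
      exact Subtype.ext h1
  rw [hfix] at hmod
  have h0 : Nat.card V ≡ 0 [MOD r] := Nat.modEq_zero_iff_dvd.mpr hrV
  have h3 : 1 ≡ 0 [MOD r] := hmod.symm.trans h0
  rw [Nat.modEq_zero_iff_dvd] at h3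
  exact hr.one_lt.ne' (Nat.dvd_one.mp h3)

/-- Product over a family of subgroups partitioning the nonidentity elements. -/
theorem prod_partition {A M : Type*} [Group A] [Fintype A] [CommMonoid M] (F : A → M)
    (PP : Finset (Subgroup A)) [∀ X : Subgroup A, Fintype X]
    (h : ∀ g : A, g ≠ 1 → ∃! X, X ∈ PP ∧ g ∈ X) :
    (∏ X ∈ PP, ∏ g : X, F g) * F 1 = (∏ g : A, F g) * F 1 ^ PP.card := by
  classical
  have h1 : ∀ X : Subgroup A, ∏ g : X, F g = ∏ g ∈ Finset.univ.filter (fun g => g ∈ X), F g := by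
    intro X
    exact (@Finset.prod_subtype A M _ (fun g => g ∈ X) (inferInstance : Fintype ↥X)
      (Finset.univ.filter (fun g => g ∈ X)) (by simp) F).symm
  simp_rw [h1]
  rw [Finset.prod_comm' (s' := fun g => PP.filter (fun X => g ∈ X)) (t' := Finset.univ)
    (by intro X g; simp)]
  simp_rw [Finset.prod_const]
  rw [← Finset.mul_prod_erase Finset.univ _ (Finset.mem_univ (1 : A)),
    ← Finset.mul_prod_erase Finset.univ F (Finset.mem_univ (1 : A))]
  have h2 : PP.filter (fun X => (1 : A) ∈ X) = PP := Finset.filter_true_of_mem (fun X _ => X.one_mem)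
  have h3 : ∀ g ∈ Finset.univ.erase (1 : A), F g ^ (PP.filter (fun X => g ∈ X)).card = F g := by
    intro g hg
    have hg1 : g ≠ 1 := (Finset.mem_erase.mp hg).1
    obtain ⟨X, ⟨hX, hgX⟩, huniq⟩ := h g hg1
    have : PP.filter (fun X => g ∈ X) = {X} := by
      ext Y
      simp only [Finset.mem_filter, Finset.mem_singleton]
      constructor
      · intro hY; exact huniq Y hY
      · rintro rfl; exact ⟨hX, hgX⟩
    rw [this, Finset.card_singleton, pow_one]
  rw [h2, Finset.prod_congr rfl h3]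
  ac_rfl

/-- The product of the conjugates of `v` under a nontrivial subgroup of a group acting without
nonidentity fixed points is trivial. -/
theorem fpf_prod_eq_one {G : Type*} [Group G] [Finite G] (A V : Subgroup G) [IsMulCommutative V]
    (hAV : A ≤ Subgroup.normalizer (V : Set G))
    (hfpf : ∀ a ∈ A, a ≠ 1 → V ⊓ Subgroup.centralizer {a} = ⊥)
    (X : Subgroup A) [Fintype X] (hX : X ≠ ⊥) (v : V) :
    ∏ g : X, cjHom A V hAV (g : A) v = 1 := by
  classical
  obtain ⟨x, hxX, hx1⟩ : ∃ x ∈ X, x ≠ 1 := by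
    by_contra hcon
    push Not at hcon
    exact hX ((Subgroup.eq_bot_iff_forall X).mpr hcon)
  obtain ⟨w, hw⟩ : ∃ w : V, w = ∏ g : X, cjHom A V hAV (g : A) v := ⟨_, rfl⟩
  have hfix : cjHom A V hAV x w = w := by
    rw [hw, map_prod]
    simp_rw [cjHom_mul]
    exact Equiv.prod_comp (Equiv.mulLeft (⟨x, hxX⟩ : X)) (fun g : X => cjHom A V hAV (g : A) v)
  have hmem : (w : G) ∈ V ⊓ Subgroup.centralizer {(x : G)} := by
    refine Subgroup.mem_inf.mpr ⟨w.2, ?_⟩
    rw [Subgroup.mem_centralizer_singleton_iff]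
    have h2 : (x : G) * w * (x : G)⁻¹ = w := congrArg Subtype.val hfix
    calc (w : G) * x = ((x : G) * w * (x : G)⁻¹) * x := by rw [h2]
      _ = x * w := by group
  rw [hfpf x x.2 (fun h => hx1 (Subtype.ext h)), Subgroup.mem_bot] at hmem
  rw [← hw]
  exact Subtype.ext hmem

theorem fpf_prod_univ_eq_one {G : Type*} [Group G] [Finite G] (A V : Subgroup G) [IsMulCommutative V]
    (hAV : A ≤ Subgroup.normalizer (V : Set G))
    (hfpf : ∀ a ∈ A, a ≠ 1 → V ⊓ Subgroup.centralizer {a} = ⊥)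
    [Fintype A] (hA : A ≠ ⊥) (v : V) :
    ∏ g : A, cjHom A V hAV g v = 1 := by
  classical
  obtain ⟨x, hxA, hx1⟩ : ∃ x ∈ A, x ≠ 1 := by
    by_contra hcon
    push Not at hcon
    exact hA ((Subgroup.eq_bot_iff_forall A).mpr hcon)
  obtain ⟨w, hw⟩ : ∃ w : V, w = ∏ g : A, cjHom A V hAV g v := ⟨_, rfl⟩
  have hfix : cjHom A V hAV ⟨x, hxA⟩ w = w := by
    rw [hw, map_prod]
    simp_rw [cjHom_mul]
    exact Equiv.prod_comp (Equiv.mulLeft (⟨x, hxA⟩ : A)) (fun g : A => cjHom A V hAV g v)
  have hmem : (w : G) ∈ V ⊓ Subgroup.centralizer {(x : G)} := by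
    refine Subgroup.mem_inf.mpr ⟨w.2, ?_⟩
    rw [Subgroup.mem_centralizer_singleton_iff]
    have h2 : (x : G) * w * (x : G)⁻¹ = w := congrArg Subtype.val hfix
    calc (w : G) * x = ((x : G) * w * (x : G)⁻¹) * x := by rw [h2]
      _ = x * w := by group
  rw [hfpf x hxA hx1, Subgroup.mem_bot] at hmem
  rw [← hw]
  exact Subtype.ext hmem

end Cfsg.Agent.Lead
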