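import Mathlib
import Cfsg.Agent.Lead.Fpf
import Cfsg.Agent.Lead.UniqSub

namespace Cfsg.Agent.Lead

universe u

/-- In a finite cyclic group the elements of order dividing a prime `p` lie in one subgroup. -/
theorem cyclic_mem_zpowers_of_pow_eq_one {p : ℕ} [Fact p.Prime] (T : Type*) [Group T] [Finite T]
    [IsCyclic T] (x y : T) (hx : x ^ p = 1) (hy : y ^ p = 1) (hx1 : x ≠ 1) :
    y ∈ Subgroup.zpowers x := by
  classical
  have hp : p.Prime := Fact.out
  haveI := Fintype.ofFinite T
  have hxo : orderOf x = p := orderOf_eq_prime hx hx1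
  have hle := IsCyclic.card_pow_eq_one_le (α := T) hp.pos
  have hsub : (Subgroup.zpowers x : Set T).toFinset ⊆ Finset.univ.filter (fun a : T => a ^ p = 1) := by
    intro z hz
    rw [Set.mem_toFinset] at hz
    rw [Finset.mem_filter]
    refine ⟨Finset.mem_univ _, ?_⟩
    obtain ⟨k, rfl⟩ := Subgroup.mem_zpowers_iff.1 hz
    rw [← zpow_natCast, ← zpow_mul, mul_comm, zpow_mul, zpow_natCast, hx, one_zpow]
  have hcard : (Subgroup.zpowers x : Set T).toFinset.card = p := by
    rw [Set.toFinset_card, ← Nat.card_eq_fintype_card]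
    exact (Nat.card_zpowers x).trans hxo
  have heq := Finset.eq_of_subset_of_card_le hsub (by rw [hcard]; convert hle)
  have : y ∈ Finset.univ.filter (fun a : T => a ^ p = 1) := by simp [hy]
  rw [← heq, Set.mem_toFinset] at this
  exact this

/-- The join of a commutative subgroup with a cyclic subgroup centralising it is commutative. -/
theorem comm_sup_zpowers {G : Type*} [Group G] (A : Subgroup G)
    (hA : ∀ x ∈ A, ∀ y ∈ A, x * y = y * x) (x : G) (hxa : ∀ a ∈ A, a * x = x * a) :
    ∀ u ∈ A ⊔ Subgroup.zpowers x, ∀ v ∈ A ⊔ Subgroup.zpowers x, u * v = v * u := by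
  have hS : ∀ u ∈ A ⊔ Subgroup.zpowers x, (∀ a ∈ A, a * u = u * a) ∧ x * u = u * x := by
    intro u hu
    have hle : A ⊔ Subgroup.zpowers x ≤ Subgroup.centralizer ((A : Set G) ∪ {x}) := by
      apply sup_le
      · intro a ha
        rw [Subgroup.mem_centralizer_iff]
        rintro s (hs | hs)
        · exact hA s hs a ha
        · rw [Set.mem_singleton_iff] at hs
          rw [hs]; exact (hxa a ha).symm
      · rw [Subgroup.zpowers_le, Subgroup.mem_centralizer_iff]
        rintro s (hs | hs)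
        · exact hxa s hs
        · rw [Set.mem_singleton_iff] at hs
          rw [hs]
    have h1 := Subgroup.mem_centralizer_iff.mp (hle hu)
    exact ⟨fun a ha => h1 a (Or.inl ha), h1 x (Or.inr rfl)⟩
  intro u hu v hv
  have hle : A ⊔ Subgroup.zpowers x ≤ Subgroup.centralizer {u} := by
    apply sup_le
    · intro a ha
      rw [Subgroup.mem_centralizer_singleton_iff]
      exact (hS u hu).1 a ha
    · rw [Subgroup.zpowers_le, Subgroup.mem_centralizer_singleton_iff]
      exact (hS u hu).2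
  have := hle hv
  rw [Subgroup.mem_centralizer_singleton_iff] at this
  exact this.symm

/-- A rank-two elementary abelian group cannot act without fixed points. -/
theorem fpf_rank_two_false {G : Type u} [Group G] [Finite G] (K : Subgroup G) (hK : K ≠ ⊥)
    (q : ℕ) [Fact q.Prime] (a b : G) (haq : a ^ q = 1) (hbq : b ^ q = 1) (hb1 : b ≠ 1)
    (hab : a ∉ Subgroup.zpowers b) (hcomm : a * b = b * a)
    (haK : a ∈ Subgroup.normalizer (K : Set G)) (hbK : b ∈ Subgroup.normalizer (K : Set G))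
    (hfpf : ∀ h ∈ Subgroup.zpowers b ⊔ Subgroup.zpowers a, h ≠ 1 →
      K ⊓ Subgroup.centralizer {h} = ⊥) : False := by
  obtain ⟨B, hB⟩ : ∃ B : Subgroup G, B = Subgroup.zpowers b ⊔ Subgroup.zpowers a := ⟨_, rfl⟩
  have hBc : ∀ u ∈ B, ∀ v ∈ B, u * v = v * u := by
    rw [hB]
    apply comm_sup_zpowers
    · intro x hx y hy
      obtain ⟨i, rfl⟩ := Subgroup.mem_zpowers_iff.mp hx
      obtain ⟨j, rfl⟩ := Subgroup.mem_zpowers_iff.mp hy
      rw [← zpow_add, ← zpow_add, add_comm]
    · intro x hx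
      obtain ⟨i, rfl⟩ := Subgroup.mem_zpowers_iff.mp hx
      exact ((Commute.zpow_left (show Commute b a from hcomm.symm) i)).eq
  haveI : IsMulCommutative B := ⟨⟨fun u v => Subtype.ext (hBc u u.2 v v.2)⟩⟩
  have haB : a ∈ B := hB ▸ (le_sup_right : Subgroup.zpowers a ≤ _) (Subgroup.mem_zpowers a)
  have hbB : b ∈ B := hB ▸ (le_sup_left : Subgroup.zpowers b ≤ _) (Subgroup.mem_zpowers b)
  have hncyc : ¬ IsCyclic B := by
    intro hcyc
    have h1 := cyclic_mem_zpowers_of_pow_eq_one (p := q) B (⟨b, hbB⟩ : B) ⟨a, haB⟩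
      (Subtype.ext (by simpa using hbq)) (Subtype.ext (by simpa using haq))
      (fun h => hb1 (congrArg Subtype.val h))
    obtain ⟨k, hk⟩ := Subgroup.mem_zpowers_iff.mp h1
    apply hab
    rw [Subgroup.mem_zpowers_iff]
    exact ⟨k, by have := congrArg Subtype.val hk; simpa using this⟩
  have hBK : B ≤ Subgroup.normalizer (K : Set G) := by
    rw [hB]
    exact sup_le (Subgroup.zpowers_le.mpr hbK) (Subgroup.zpowers_le.mpr haK)
  have hfpf' : ∀ h ∈ B, h ≠ 1 → K ⊓ Subgroup.centralizer {h} = ⊥ := by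
    intro h hh; exact hfpf h (hB ▸ hh)
  have hcop := fpf_coprime B K hBK hfpf'
  have h1 := genCent_eq B hncyc (Nat.card K) K rfl hBK hcop
  have h2 : genCent B K ≤ ⊥ := by
    unfold genCent
    exact iSup₂_le fun a ha => (hfpf' a ha.1 ha.2).le
  exact hK (eq_bot_iff.mpr (h1.trans h2))

/-- Two distinct subgroups of order `p` in a `p`-group give a rank-two elementary abelian pair. -/
theorem exists_rank_two_of_two_subgroups {Q : Type*} [Group Q] [Finite Q] {p : ℕ} [hp : Fact p.Prime]
    (hQ : IsPGroup p Q) (X Y : Subgroup Q) (hX : Nat.card X = p) (hY : Nat.card Y = p)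
    (hXY : X ≠ Y) :
    ∃ x z : Q, x ^ p = 1 ∧ z ^ p = 1 ∧ z ≠ 1 ∧ x ∉ Subgroup.zpowers z ∧ x * z = z * x := by
  haveI : Nontrivial Q := by
    have h1 : 1 < Nat.card X := hX ▸ hp.out.one_lt
    obtain ⟨x, hx⟩ := (Subgroup.one_lt_card_iff_ne_bot X).mp h1 |> fun h => Subgroup.ne_bot_iff_exists_ne_one.mp h
    exact ⟨⟨(x : Q), 1, fun h => hx (Subtype.ext h)⟩⟩
  have hZ : Nontrivial (Subgroup.center Q) := hQ.center_nontrivial
  have hdvd : p ∣ Nat.card (Subgroup.center Q) := by
    obtain ⟨k, hk⟩ := IsPGroup.iff_card.mp (hQ.to_subgroup (Subgroup.center Q))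
    have hk0 : k ≠ 0 := by
      rintro rfl
      rw [pow_zero] at hk
      exact (Finite.one_lt_card_iff_nontrivial.mpr hZ).ne' hk
    rw [hk]; exact dvd_pow_self p hk0
  obtain ⟨z', hz'⟩ := exists_prime_orderOf_dvd_card' p hdvd
  obtain ⟨z, hzdef⟩ : ∃ z : Q, z = (z' : Q) := ⟨_, rfl⟩
  have hzc : z ∈ Subgroup.center Q := hzdef ▸ z'.2
  have hz1 : z ≠ 1 := by
    intro h
    have : z' = 1 := Subtype.ext (hzdef ▸ h)
    rw [this, orderOf_one] at hz'
    exact hp.out.one_lt.ne hz'
  have hzp : z ^ p = 1 := by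
    have := pow_orderOf_eq_one z'
    rw [hz'] at this
    rw [hzdef]
    exact_mod_cast congrArg Subtype.val this
  have hZcard : Nat.card (Subgroup.zpowers z) = p := by
    rw [Nat.card_zpowers, orderOf_eq_prime hzp hz1]
  have key : ∀ W : Subgroup Q, Nat.card W = p → W ≠ Subgroup.zpowers z →
      ∃ x : Q, x ^ p = 1 ∧ x ∉ Subgroup.zpowers z := by
    intro W hW hWZ
    by_contra hcon
    push Not at hcon
    apply hWZ
    have hle : W ≤ Subgroup.zpowers z := by
      intro x hx
      apply hcon x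
      have h1 : (⟨x, hx⟩ : W) ^ Nat.card W = 1 := pow_card_eq_one'
      rw [hW] at h1
      have h2 := congrArg Subtype.val h1
      simpa using h2
    exact Subgroup.eq_of_le_of_card_ge hle (by rw [hZcard, hW])
  have hfin : ∃ x : Q, x ^ p = 1 ∧ x ∉ Subgroup.zpowers z := by
    by_cases hXZ : X = Subgroup.zpowers z
    · exact key Y hY (fun h => hXY (hXZ.trans h.symm))
    · exact key X hX hXZ
  obtain ⟨x, hxp, hxZ⟩ := hfin
  exact ⟨x, z, hxp, hzp, hz1, hxZ, (Subgroup.mem_center_iff.mp hzc x)⟩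

end Cfsg.Agent.Lead
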