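import Mathlib
import Cfsg.Agent.Lead.Fpf2
import Cfsg.Agent.Lead.Coprime3
import Cfsg.Agent.S0041
import Cfsg.Agent.S0144

namespace Cfsg.Agent.Lead

universe u

theorem mem_normalizer_of_conj_mem {G : Type*} [Group G] (S : Subgroup G) [Finite S] (a : G)
    (h : ∀ s ∈ S, a * s * a⁻¹ ∈ S) : a ∈ Subgroup.normalizer (S : Set G) := by
  rw [Subgroup.mem_normalizer_iff]
  intro y
  refine ⟨h y, fun hy => ?_⟩
  let f : S → S := fun s => ⟨a * s * a⁻¹, h s s.2⟩
  have hinj : Function.Injective f := by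
    intro s t hst
    have h1 : a * (s : G) * a⁻¹ = a * (t : G) * a⁻¹ := congrArg Subtype.val hst
    exact Subtype.ext (by simpa using h1)
  obtain ⟨s, hs⟩ := (Finite.injective_iff_surjective.mp hinj) ⟨a * y * a⁻¹, hy⟩
  have h2 : a * (s : G) * a⁻¹ = a * y * a⁻¹ := congrArg Subtype.val hs
  have h3 : (s : G) = y := by simpa using h2
  rw [← h3]; exact s.2

theorem normalizer_le_normalizer_inf_centralizer {G : Type*} [Group G] (T : Subgroup G) :
    Subgroup.normalizer (T : Set G) ≤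
      Subgroup.normalizer ((T ⊓ Subgroup.centralizer (T : Set G) : Subgroup G) : Set G) := by
  intro g hg
  have hg' : g⁻¹ ∈ Subgroup.normalizer (T : Set G) := Subgroup.inv_mem _ hg
  have key : ∀ n ∈ Subgroup.normalizer (T : Set G), ∀ v ∈ T ⊓ Subgroup.centralizer (T : Set G),
      n * v * n⁻¹ ∈ T ⊓ Subgroup.centralizer (T : Set G) := by
    intro n hn v hv
    obtain ⟨hvT, hvC⟩ := Subgroup.mem_inf.mp hv
    refine Subgroup.mem_inf.mpr ⟨(Subgroup.mem_normalizer_iff.mp hn v).mp hvT, ?_⟩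
    rw [Subgroup.mem_centralizer_iff]
    intro t ht
    have ht' : n⁻¹ * t * n ∈ T := by
      have := (Subgroup.mem_normalizer_iff.mp (Subgroup.inv_mem _ hn) t).mp ht
      simpa using this
    have h1 := (Subgroup.mem_centralizer_iff.mp hvC) _ ht'
    calc t * (n * v * n⁻¹) = n * ((n⁻¹ * t * n) * v) * n⁻¹ := by group
      _ = n * (v * (n⁻¹ * t * n)) * n⁻¹ := by rw [h1]
      _ = n * v * n⁻¹ * t := by group
  rw [Subgroup.mem_normalizer_iff]
  intro v
  refine ⟨key g hg v, fun hv => ?_⟩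
  have := key g⁻¹ hg' _ hv
  have e : g⁻¹ * (g * v * g⁻¹) * g⁻¹⁻¹ = v := by group
  rwa [e] at this

/-- In a group acting without fixed points, an element of prime order normalising a subgroup of
another prime order centralises it. -/
theorem fpf_pq_commute {G : Type u} [Group G] [Finite G] (K H : Subgroup G) [K.Normal]
    (hK : K ≠ ⊥) (hfpf : ∀ h ∈ H, h ≠ 1 → K ⊓ Subgroup.centralizer {h} = ⊥)
    (p r : ℕ) (hp : p.Prime) (hr : r.Prime) (hpr : p ≠ r) (a b : G) (ha : a ∈ H) (hb : b ∈ H)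
    (hap : a ^ p = 1) (hbr : b ^ r = 1) (hnorm : a * b * a⁻¹ ∈ Subgroup.zpowers b) :
    a * b = b * a := by
  classical
  by_cases ha1 : a = 1
  · rw [ha1]; simp
  by_cases hb1 : b = 1
  · rw [hb1]; simp
  haveI : Fact p.Prime := ⟨hp⟩
  haveI : Fact r.Prime := ⟨hr⟩
  have hoa : orderOf a = p := orderOf_eq_prime hap ha1
  have hob : orderOf b = r := orderOf_eq_prime hbr hb1
  obtain ⟨B, hB⟩ : ∃ B : Subgroup G, B = Subgroup.zpowers b ⊔ Subgroup.zpowers a := ⟨_, rfl⟩
  have haN : Subgroup.zpowers a ≤ Subgroup.normalizer (Subgroup.zpowers b : Set G) := by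
    rw [Subgroup.zpowers_le]
    apply mem_normalizer_of_conj_mem
    intro s hs
    obtain ⟨k, rfl⟩ := Subgroup.mem_zpowers_iff.mp hs
    rw [← conj_zpow]
    exact Subgroup.zpow_mem _ hnorm k
  have hdisj : Subgroup.zpowers b ⊓ Subgroup.zpowers a = ⊥ := by
    rw [eq_bot_iff]
    intro x hx
    obtain ⟨hx1, hx2⟩ := Subgroup.mem_inf.mp hx
    rw [Subgroup.mem_bot]
    have h1 : orderOf x ∣ r := by
      have := Subgroup.orderOf_dvd_natCard _ hx1
      rwa [Nat.card_zpowers, hob] at this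
    have h2 : orderOf x ∣ p := by
      have := Subgroup.orderOf_dvd_natCard _ hx2
      rwa [Nat.card_zpowers, hoa] at this
    have h3 : orderOf x ∣ Nat.gcd r p := Nat.dvd_gcd h1 h2
    rw [(Nat.coprime_primes hr hp).mpr (Ne.symm hpr)] at h3
    exact orderOf_eq_one_iff.mp (Nat.dvd_one.mp h3)
  have hcardB : Nat.card B = p * r := by
    rw [hB, card_sup_of_le_normalizer _ _ haN hdisj, Nat.card_zpowers, Nat.card_zpowers, hoa, hob,
      mul_comm]
  have hBH : B ≤ H := by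
    rw [hB]; exact sup_le (Subgroup.zpowers_le.mpr hb) (Subgroup.zpowers_le.mpr ha)
  have haB : a ∈ B := hB ▸ (le_sup_right : Subgroup.zpowers a ≤ _) (Subgroup.mem_zpowers a)
  have hbB : b ∈ B := hB ▸ (le_sup_left : Subgroup.zpowers b ≤ _) (Subgroup.mem_zpowers b)
  have hBsolv : Group.IsSolvable B := by
    apply Cfsg.Agent.S0144.solvable_of_two_primes p r hp hr (Nat.card B) B rfl
    intro s hs hsd
    rw [hcardB] at hsd
    rcases (Nat.Prime.dvd_mul hs).mp hsd with h | h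
    · exact Or.inl ((Nat.prime_dvd_prime_iff_eq hs hp).mp h)
    · exact Or.inr ((Nat.prime_dvd_prime_iff_eq hs hr).mp h)
  have hBK : B ≤ Subgroup.normalizer (K : Set G) := by
    rw [Subgroup.normalizer_eq_top_iff.mpr inferInstance]; exact le_top
  have hfpfB : ∀ h ∈ B, h ≠ 1 → K ⊓ Subgroup.centralizer {h} = ⊥ := fun h hh => hfpf h (hBH hh)
  have hcop := fpf_coprime B K hBK hfpfB
  have hKcard : Nat.card K ≠ 1 := fun h => hK (Subgroup.card_eq_one.mp h)
  obtain ⟨t, ht, htK⟩ := Nat.exists_prime_and_dvd hKcard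
  haveI : Fact t.Prime := ⟨ht⟩
  obtain ⟨T, hT⟩ := coprime_sylow_exists B K hBK hcop (Or.inl hBsolv) t
  obtain ⟨T₀, hT₀⟩ : ∃ T₀ : Subgroup G, T₀ = (T : Subgroup K).map K.subtype := ⟨_, rfl⟩
  rw [← hT₀] at hT
  have hT₀K : T₀ ≤ K := hT₀ ▸ Subgroup.map_subtype_le _
  have hT₀card : Nat.card T₀ = t ^ (Nat.card K).factorization t := by
    rw [hT₀, Subgroup.card_map_of_injective K.subtype_injective]; exact T.card_eq_multiplicity
  have hT₀p : IsPGroup t T₀ := IsPGroup.of_card hT₀card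
  have hT₀nt : Nontrivial T₀ := by
    rw [← Finite.one_lt_card_iff_nontrivial, hT₀card]
    apply Nat.one_lt_pow _ ht.one_lt
    exact (Nat.Prime.factorization_pos_of_dvd ht (Nat.card_pos.ne') htK).ne'
  obtain ⟨V, hV⟩ : ∃ V : Subgroup G, V = T₀ ⊓ Subgroup.centralizer (T₀ : Set G) := ⟨_, rfl⟩
  have hVc : ∀ u ∈ V, ∀ v ∈ V, u * v = v * u := by
    intro u hu v hv
    rw [hV] at hu hv
    exact ((Subgroup.mem_centralizer_iff.mp (Subgroup.mem_inf.mp hv).2) u (Subgroup.mem_inf.mp hu).1)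
  haveI : IsMulCommutative V := ⟨⟨fun u v => Subtype.ext (hVc u u.2 v v.2)⟩⟩
  have hVne : V ≠ ⊥ := by
    have hZ := hT₀p.center_nontrivial
    obtain ⟨z, hz⟩ := exists_ne (1 : Subgroup.center T₀)
    intro hbot
    have hzV : ((z : T₀) : G) ∈ V := by
      rw [hV]
      refine Subgroup.mem_inf.mpr ⟨(z : T₀).2, ?_⟩
      rw [Subgroup.mem_centralizer_iff]
      intro s hs
      have := Subgroup.mem_center_iff.mp z.2 ⟨s, hs⟩
      exact congrArg Subtype.val this
    rw [hbot, Subgroup.mem_bot] at hzV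
    exact hz (Subtype.ext (Subtype.ext hzV))
  have hBV : B ≤ Subgroup.normalizer (V : Set G) := by
    rw [hV]; exact hT.trans (normalizer_le_normalizer_inf_centralizer T₀)
  have hfpfV : ∀ h ∈ B, h ≠ 1 → V ⊓ Subgroup.centralizer {h} = ⊥ := by
    intro h hh hh1
    rw [eq_bot_iff, ← hfpfB h hh hh1]
    refine inf_le_inf_right _ ?_
    rw [hV]; exact inf_le_left.trans hT₀K
  have hcyc : IsCyclic B :=
    Cfsg.Agent.S0041.result B V hVne hBV hfpfV (Or.inr ⟨p, r, hp, hr, hcardB⟩)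
  letI := IsCyclic.commGroup (α := B)
  have := mul_comm (⟨a, haB⟩ : B) ⟨b, hbB⟩
  exact congrArg Subtype.val this

end Cfsg.Agent.Lead
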