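import Mathlib
import Cfsg.Agent.S3918

set_option autoImplicit false

namespace Cfsg.Agent.Lead.PCount

/-- if `D` has index `p²` and `D ⊔ ⟨x⟩` has index `p` for every `x ∉ D`, then any family of
index-`p` overgroups of `D` that contains all the `D ⊔ ⟨x⟩` has exactly `p + 1` members -/
theorem count_index_p {G : Type*} [Group G] [Finite G] {p : ℕ} [Fact p.Prime] (D : Subgroup G)
    (hD : D.index = p ^ 2) (hx : ∀ x : G, x ∉ D → (D ⊔ Subgroup.zpowers x).index = p)
    (Pr : Subgroup G → Prop) (hP1 : ∀ M, Pr M → D ≤ M ∧ M.index = p)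
    (hP2 : ∀ x : G, x ∉ D → Pr (D ⊔ Subgroup.zpowers x)) :
    Nat.card {M : Subgroup G // Pr M} = p + 1 := by
  classical
  have hpp : p.Prime := Fact.out
  obtain ⟨q, hqdef⟩ : ∃ q : ℕ, q = Nat.card D := ⟨_, rfl⟩
  have hqpos : 0 < q := by rw [hqdef]; exact Nat.card_pos
  have hDcard : Nat.card D = q := hqdef.symm
  have hGq : Nat.card G = q * p * p := by
    have hmul := Subgroup.card_mul_index D
    rw [hD, hDcard] at hmul
    rw [← hmul]; ring
  haveI : Fintype G := Fintype.ofFinite G
  haveI : Fintype (Subgroup G) := Fintype.ofFinite _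
  obtain ⟨T, hTmem⟩ : ∃ T : Finset (Subgroup G), ∀ M, M ∈ T ↔ Pr M :=
    ⟨Finset.univ.filter (fun M => Pr M), fun M => by simp⟩
  obtain ⟨s, hsmem⟩ : ∃ s : Finset G, ∀ x, x ∈ s ↔ x ∉ D :=
    ⟨Finset.univ.filter (fun x => x ∉ D), fun x => by simp⟩
  have hTcard : Nat.card {M : Subgroup G // Pr M} = T.card := Nat.subtype_card T hTmem
  rw [hTcard]
  obtain ⟨e, he⟩ : ∃ e, p = e + 1 := ⟨p - 1, by have h1 := hpp.pos; omega⟩
  have he1 : 1 ≤ e := by have h1 := hpp.two_le; omega
  have hqp : q * p = q * e + q := by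
    calc q * p = q * (e + 1) := by rw [← he]
      _ = q * e + q := by ring
  have hqpp : q * p * p = q * e * (e + 2) + q := by
    calc q * p * p = q * (e + 1) * (e + 1) := by rw [← he]
      _ = q * e * (e + 2) + q := by ring
  have hnc : ∀ H : Subgroup G, (H : Set G).ncard = Nat.card H :=
    fun H => (Nat.card_coe_set_eq (H : Set G)).symm
  have hfT : ∀ x ∈ s, D ⊔ Subgroup.zpowers x ∈ T := by
    intro x hx'
    rw [hTmem]
    exact hP2 x ((hsmem x).mp hx')
  have hfibc : ∀ (M : Subgroup G) (hM : M ∈ T)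
      (inst : DecidablePred (fun a => D ⊔ Subgroup.zpowers a = M)),
      (@Finset.filter G (fun a => D ⊔ Subgroup.zpowers a = M) inst s).card = q * e := by
    intro M hM inst
    obtain ⟨hDM, hMi⟩ := hP1 M ((hTmem M).mp hM)
    have hset : ((@Finset.filter G (fun a => D ⊔ Subgroup.zpowers a = M) inst s : Finset G) :
        Set G) = (M : Set G) \ (D : Set G) := by
      ext x
      simp only [Finset.mem_coe, Finset.mem_filter, hsmem, Set.mem_diff, SetLike.mem_coe]
      constructor
      · rintro ⟨hxD, hxM⟩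
        refine ⟨?_, hxD⟩
        rw [← hxM]
        exact (le_sup_right : Subgroup.zpowers x ≤ _) (Subgroup.mem_zpowers x)
      · rintro ⟨hxM, hxD⟩
        refine ⟨hxD, ?_⟩
        have hle : D ⊔ Subgroup.zpowers x ≤ M := sup_le hDM (Subgroup.zpowers_le.mpr hxM)
        rcases S3918.max_of_index_prime hpp _ _ (hx x hxD) hle with h | h
        · exact h.symm
        · exfalso; rw [h, Subgroup.index_top] at hMi; exact hpp.one_lt.ne hMi
    have hMcard : Nat.card M = q * p := by
      have hmul := Subgroup.card_mul_index M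
      rw [hMi, hGq] at hmul
      exact Nat.eq_of_mul_eq_mul_right hpp.pos hmul
    have h1 := Set.ncard_sdiff_add_ncard_of_subset (SetLike.coe_subset_coe.mpr hDM)
    rw [← hset, Set.ncard_coe_finset, hnc M, hnc D, hDcard, hMcard] at h1
    omega
  have hscard : s.card = q * e * (e + 2) := by
    have hsset : (s : Set G) = (Set.univ : Set G) \ (D : Set G) := by
      ext x
      simp only [Finset.mem_coe, hsmem, Set.mem_diff, Set.mem_univ, true_and, SetLike.mem_coe]
    have h1 := Set.ncard_sdiff_add_ncard_of_subset (Set.subset_univ (D : Set G))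
    rw [← hsset, Set.ncard_coe_finset, hnc D, hDcard, Set.ncard_univ, hGq] at h1
    omega
  have hfib : s.card = T.card * (q * e) :=
    (Finset.card_eq_sum_card_fiberwise (f := fun x => D ⊔ Subgroup.zpowers x) (s := s)
      (t := T) hfT).trans (Finset.sum_const_nat (fun M hM => hfibc M hM _))
  rw [hscard] at hfib
  have hpos : 0 < q * e := Nat.mul_pos hqpos he1
  have h5 : (e + 2) * (q * e) = T.card * (q * e) := by rw [← hfib]; ring
  have h6 := Nat.eq_of_mul_eq_mul_right hpos h5
  omega

end Cfsg.Agent.Lead.PCount
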