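import Mathlib
import Cfsg.Agent.S3918

set_option autoImplicit false

namespace Cfsg.Agent.Lead.PLcs

open scoped commutatorElement

variable {Q : Type*} [Group Q] [Finite Q] {p : ℕ} [Fact p.Prime]

/-- in a finite p-group, `[H, G] ≠ H` for nontrivial `H` -/
theorem comm_ne_self (hQ : IsPGroup p Q) (H : Subgroup Q) (hH : H ≠ ⊥) :
    ⁅H, (⊤ : Subgroup Q)⁆ ≠ H := by
  intro heq
  haveI : Group.IsNilpotent Q := hQ.isNilpotent
  obtain ⟨m, hm⟩ := Subgroup.nilpotent_iff_lowerCentralSeries.mp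
    (inferInstance : Group.IsNilpotent Q)
  have hle : ∀ k, H ≤ (⊤ : Subgroup Q).lowerCentralSeries k := by
    intro k
    induction k with
    | zero => exact le_top
    | succ k ih =>
      rw [Subgroup.lowerCentralSeries_succ]
      exact (le_of_eq heq.symm).trans (Subgroup.commutator_mono ih le_rfl)
  have h1 := hle m
  rw [hm] at h1
  exact hH (le_bot_iff.mp h1)

omit [Finite Q] in
/-- if `G = G' ⟨x⟩` then `G' ≤ [G', G]` -/
theorem comm_le_of_sup_zpowers (x₀ : Q)
    (h : (⊤ : Subgroup Q).lowerCentralSeries 1 ⊔ Subgroup.zpowers x₀ = ⊤) :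
    (⊤ : Subgroup Q).lowerCentralSeries 1 ≤
      ⁅(⊤ : Subgroup Q).lowerCentralSeries 1, (⊤ : Subgroup Q)⁆ := by
  obtain ⟨D, hDdef⟩ : ∃ D : Subgroup Q, D = (⊤ : Subgroup Q).lowerCentralSeries 1 := ⟨_, rfl⟩
  rw [← hDdef] at h ⊢
  have hD1 : D = ⁅(⊤ : Subgroup Q), (⊤ : Subgroup Q)⁆ := by rw [hDdef]; rfl
  haveI hDn : D.Normal := by rw [hD1]; infer_instance
  obtain ⟨K, hKdef⟩ : ∃ K : Subgroup Q, K = ⁅D, (⊤ : Subgroup Q)⁆ := ⟨_, rfl⟩
  rw [← hKdef]
  haveI hKn : K.Normal := by rw [hKdef]; infer_instance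
  have hcomm : ∀ d ∈ D, ∀ g : Q,
      Commute (QuotientGroup.mk' K d) (QuotientGroup.mk' K g) := by
    intro d hd g
    apply commutatorElement_eq_one_iff_commute.mp
    rw [← map_commutatorElement]
    exact (QuotientGroup.eq_one_iff (N := K) ⁅d, g⁆).mpr
      (by rw [hKdef]; exact Subgroup.commutator_mem_commutator hd (Subgroup.mem_top g))
  have hdecomp : ∀ g : Q, ∃ d ∈ D, ∃ i : ℤ, g = d * x₀ ^ i := by
    intro g
    have hg : g ∈ ((D ⊔ Subgroup.zpowers x₀ : Subgroup Q) : Set Q) := by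
      rw [h]; exact Subgroup.mem_top g
    rw [Subgroup.normal_mul] at hg
    obtain ⟨d, hd, u, hu, rfl⟩ := Set.mem_mul.mp hg
    obtain ⟨i, rfl⟩ := Subgroup.mem_zpowers_iff.mp hu
    exact ⟨d, hd, i, rfl⟩
  rw [hD1, Subgroup.commutator_le]
  intro x _ y _
  obtain ⟨d₁, hd₁, i, rfl⟩ := hdecomp x
  obtain ⟨d₂, hd₂, j, rfl⟩ := hdecomp y
  have hc : Commute (QuotientGroup.mk' K (d₁ * x₀ ^ i)) (QuotientGroup.mk' K (d₂ * x₀ ^ j)) := by
    have h1 := hcomm d₁ hd₁ (d₂ * x₀ ^ j)
    have h2 : Commute (QuotientGroup.mk' K (x₀ ^ i)) (QuotientGroup.mk' K d₂) :=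
      (hcomm d₂ hd₂ (x₀ ^ i)).symm
    have h3 : Commute (QuotientGroup.mk' K (x₀ ^ i)) (QuotientGroup.mk' K (x₀ ^ j)) :=
      ((Commute.refl x₀).zpow_zpow i j).map (QuotientGroup.mk' K)
    rw [map_mul (QuotientGroup.mk' K) d₁, map_mul (QuotientGroup.mk' K) d₂]
    rw [map_mul (QuotientGroup.mk' K) d₂] at h1
    exact Commute.mul_left h1 (Commute.mul_right h2 h3)
  have h4 : QuotientGroup.mk' K ⁅d₁ * x₀ ^ i, d₂ * x₀ ^ j⁆ = 1 := by
    rw [map_commutatorElement]
    exact commutatorElement_eq_one_iff_commute.mpr hc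
  exact (QuotientGroup.eq_one_iff (N := K) _).mp h4

/-- the abelianization of a nonabelian finite p-group has order at least `p²` -/
theorem index_comm_not_dvd (hQ : IsPGroup p Q)
    (hne : (⊤ : Subgroup Q).lowerCentralSeries 1 ≠ ⊥) :
    ¬ ((⊤ : Subgroup Q).lowerCentralSeries 1).index ∣ p := by
  have hpp : p.Prime := Fact.out
  intro hdvd
  have hD1 : (⊤ : Subgroup Q).lowerCentralSeries 1 = ⁅(⊤ : Subgroup Q), (⊤ : Subgroup Q)⁆ := rfl
  haveI hDn : ((⊤ : Subgroup Q).lowerCentralSeries 1).Normal := by rw [hD1]; infer_instance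
  have hle : ⁅(⊤ : Subgroup Q).lowerCentralSeries 1, (⊤ : Subgroup Q)⁆ ≤
      (⊤ : Subgroup Q).lowerCentralSeries 1 := Subgroup.commutator_le_left _ _
  have hkey : ∃ x₀ : Q, (⊤ : Subgroup Q).lowerCentralSeries 1 ⊔ Subgroup.zpowers x₀ = ⊤ := by
    rcases (Nat.dvd_prime hpp).mp hdvd with h1 | h1
    · refine ⟨1, ?_⟩
      rw [Subgroup.index_eq_one.mp h1]
      exact top_sup_eq _
    · have hnt : (⊤ : Subgroup Q).lowerCentralSeries 1 ≠ ⊤ := by
        intro h2
        rw [h2, Subgroup.index_top] at h1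
        exact hpp.one_lt.ne h1
      obtain ⟨x₀, hx₀⟩ : ∃ x₀ : Q, x₀ ∉ (⊤ : Subgroup Q).lowerCentralSeries 1 := by
        by_contra hall
        push_neg at hall
        exact hnt (eq_top_iff.mpr (fun x _ => hall x))
      refine ⟨x₀, ?_⟩
      rcases S3918.max_of_index_prime hpp _
        ((⊤ : Subgroup Q).lowerCentralSeries 1 ⊔ Subgroup.zpowers x₀) h1 le_sup_left with h3 | h3
      · exfalso
        have hx : x₀ ∈ (⊤ : Subgroup Q).lowerCentralSeries 1 ⊔ Subgroup.zpowers x₀ :=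
          (le_sup_right : Subgroup.zpowers x₀ ≤ _) (Subgroup.mem_zpowers x₀)
        rw [h3] at hx
        exact hx₀ hx
      · exact h3
  obtain ⟨x₀, hx₀⟩ := hkey
  exact comm_ne_self hQ _ hne (le_antisymm hle (comm_le_of_sup_zpowers x₀ hx₀))

theorem card_pow (hQ : IsPGroup p Q) (H : Subgroup Q) : ∃ a, Nat.card H = p ^ a :=
  IsPGroup.iff_card.mp (hQ.to_subgroup H)

theorem card_step (hQ : IsPGroup p Q) (k : ℕ)
    (hne : (⊤ : Subgroup Q).lowerCentralSeries k ≠ ⊥) :
    Nat.card ((⊤ : Subgroup Q).lowerCentralSeries (k + 1)) * p ≤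
      Nat.card ((⊤ : Subgroup Q).lowerCentralSeries k) := by
  have hpp : p.Prime := Fact.out
  have hle : (⊤ : Subgroup Q).lowerCentralSeries (k + 1) ≤
      (⊤ : Subgroup Q).lowerCentralSeries k :=
    Subgroup.lowerCentralSeries_antitone _ (Nat.le_succ k)
  have hneq : (⊤ : Subgroup Q).lowerCentralSeries (k + 1) ≠
      (⊤ : Subgroup Q).lowerCentralSeries k := by
    rw [Subgroup.lowerCentralSeries_succ]; exact comm_ne_self hQ _ hne
  obtain ⟨a, ha⟩ := card_pow hQ ((⊤ : Subgroup Q).lowerCentralSeries (k + 1))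
  obtain ⟨b, hb⟩ := card_pow hQ ((⊤ : Subgroup Q).lowerCentralSeries k)
  have h1 := Subgroup.card_le_of_le hle
  rw [ha, hb] at h1
  have hab : a ≤ b := (Nat.pow_le_pow_iff_right hpp.one_lt).mp h1
  have hab' : a ≠ b := by
    intro heq
    apply hneq
    exact Subgroup.eq_of_le_of_card_ge hle (le_of_eq (by rw [ha, hb, heq]))
  rw [ha, hb, ← pow_succ]
  exact Nat.pow_le_pow_right hpp.pos (by omega)

theorem card_bound (hQ : IsPGroup p Q) (r : ℕ) (hr : Nat.card Q = p ^ r) :
    ∀ k, (⊤ : Subgroup Q).lowerCentralSeries (k + 1) ≠ ⊥ →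
      Nat.card ((⊤ : Subgroup Q).lowerCentralSeries (k + 1)) * p ^ (k + 2) ≤ p ^ r := by
  have hpp : p.Prime := Fact.out
  intro k
  induction k with
  | zero =>
    intro hne
    show Nat.card ((⊤ : Subgroup Q).lowerCentralSeries 1) * p ^ 2 ≤ p ^ r
    obtain ⟨j, hj⟩ := hQ.index ((⊤ : Subgroup Q).lowerCentralSeries 1)
    have hnd := index_comm_not_dvd hQ hne
    have hj2 : 2 ≤ j := by
      by_contra hlt
      apply hnd
      rw [hj]
      have hj01 : j = 0 ∨ j = 1 := by omega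
      rcases hj01 with h | h
      · rw [h, pow_zero]; exact one_dvd p
      · rw [h, pow_one]
    have hmul := Subgroup.card_mul_index ((⊤ : Subgroup Q).lowerCentralSeries 1)
    rw [hj, hr] at hmul
    rw [← hmul]
    exact Nat.mul_le_mul_left _ (Nat.pow_le_pow_right hpp.pos hj2)
  | succ k ih =>
    intro hne
    have hne' : (⊤ : Subgroup Q).lowerCentralSeries (k + 1) ≠ ⊥ := by
      intro h0
      apply hne
      have h1 := Subgroup.lowerCentralSeries_antitone (⊤ : Subgroup Q) (Nat.le_succ (k + 1))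
      rw [h0] at h1
      exact le_bot_iff.mp h1
    have h1 := ih hne'
    have h2 := card_step hQ (k + 1) hne'
    calc Nat.card ((⊤ : Subgroup Q).lowerCentralSeries (k + 1 + 1)) * p ^ (k + 1 + 2)
        = (Nat.card ((⊤ : Subgroup Q).lowerCentralSeries (k + 1 + 1)) * p) * p ^ (k + 2) := by
          ring
      _ ≤ Nat.card ((⊤ : Subgroup Q).lowerCentralSeries (k + 1)) * p ^ (k + 2) :=
          Nat.mul_le_mul_right _ h2
      _ ≤ p ^ r := h1

/-- a group of order `p^r`, `r ≥ 2`, has class at most `r - 1` -/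
theorem lcs_eq_bot (hQ : IsPGroup p Q) (r : ℕ) (hr : Nat.card Q = p ^ r) (hr2 : 2 ≤ r) :
    (⊤ : Subgroup Q).lowerCentralSeries (r - 1) = ⊥ := by
  have hpp : p.Prime := Fact.out
  by_contra hne
  obtain ⟨k, hk⟩ : ∃ k, r - 1 = k + 1 := ⟨r - 2, by omega⟩
  rw [hk] at hne
  have h1 := card_bound hQ r hr k hne
  have h2 : k + 2 = r := by omega
  rw [h2] at h1
  have hpos : 0 < p ^ r := pow_pos hpp.pos r
  have h3 : Nat.card ((⊤ : Subgroup Q).lowerCentralSeries (k + 1)) ≤ 1 := by
    by_contra hgt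
    push_neg at hgt
    have h4 : 2 * p ^ r ≤ Nat.card ((⊤ : Subgroup Q).lowerCentralSeries (k + 1)) * p ^ r :=
      Nat.mul_le_mul_right _ hgt
    omega
  exact hne (Subgroup.eq_bot_of_card_le _ h3)

/-- orders of the lower central series terms in a p-group of maximal class -/
theorem maxclass_card (hQ : IsPGroup p Q) (n : ℕ) (hn3 : 3 ≤ n) (hcard : Nat.card Q = p ^ n)
    (hne : (⊤ : Subgroup Q).lowerCentralSeries (n - 2) ≠ ⊥) :
    ∀ k, 1 ≤ k → k ≤ n - 1 →
      Nat.card ((⊤ : Subgroup Q).lowerCentralSeries k) = p ^ (n - 1 - k) := by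
  have hpp : p.Prime := Fact.out
  have hcp : ∀ k, ∃ a, Nat.card ((⊤ : Subgroup Q).lowerCentralSeries k) = p ^ a :=
    fun k => card_pow hQ _
  choose a ha using hcp
  have hnek : ∀ k, k ≤ n - 2 → (⊤ : Subgroup Q).lowerCentralSeries k ≠ ⊥ := by
    intro k hk h0
    apply hne
    have h1 := Subgroup.lowerCentralSeries_antitone (⊤ : Subgroup Q) hk
    rw [h0] at h1
    exact le_bot_iff.mp h1
  have hstep : ∀ k, k ≤ n - 2 → a (k + 1) + 1 ≤ a k := by
    intro k hk
    have h := card_step hQ k (hnek k hk)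
    rw [ha, ha, ← pow_succ] at h
    exact (Nat.pow_le_pow_iff_right hpp.one_lt).mp h
  have h1 : a 1 + 2 ≤ n := by
    have h : Nat.card ((⊤ : Subgroup Q).lowerCentralSeries 1) * p ^ 2 ≤ p ^ n :=
      card_bound hQ n hcard 0 (hnek 1 (by omega))
    rw [ha, ← pow_add] at h
    exact (Nat.pow_le_pow_iff_right hpp.one_lt).mp h
  have h2 : 1 ≤ a (n - 2) := by
    by_contra hlt
    have h0 : a (n - 2) = 0 := by omega
    apply hne
    exact Subgroup.eq_bot_of_card_le _ (le_of_eq (by rw [ha, h0, pow_zero]))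
  have hup : ∀ j, 1 + j ≤ n - 1 → a (1 + j) + j ≤ a 1 := by
    intro j
    induction j with
    | zero => intro _; exact le_rfl
    | succ j ih =>
      intro hj
      have h3 := ih (by omega)
      have h4 := hstep (1 + j) (by omega)
      have e : 1 + (j + 1) = 1 + j + 1 := by omega
      rw [e]
      omega
  have hdown : ∀ j, j ≤ n - 3 → j + 1 ≤ a (n - 2 - j) := by
    intro j
    induction j with
    | zero => intro _; simpa using h2
    | succ j ih =>
      intro hj
      have h3 := ih (by omega)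
      have h4 := hstep (n - 2 - (j + 1)) (by omega)
      have e : n - 2 - (j + 1) + 1 = n - 2 - j := by omega
      rw [e] at h4
      omega
  intro k hk1 hk2
  rw [ha]
  congr 1
  by_cases hkn : k = n - 1
  · have hbot := lcs_eq_bot hQ n hcard (by omega)
    have h5 := ha (n - 1)
    rw [hbot, Subgroup.card_bot] at h5
    have h6 : a (n - 1) = 0 := by
      by_contra hpos
      have h7 : 1 < p ^ a (n - 1) := Nat.one_lt_pow hpos hpp.one_lt
      omega
    rw [hkn, h6]; omega
  · have h7 := hup (k - 1) (by omega)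
    have h8 := hdown (n - 2 - k) (by omega)
    have e1 : 1 + (k - 1) = k := by omega
    have e2 : n - 2 - (n - 2 - k) = k := by omega
    rw [e1] at h7
    rw [e2] at h8
    omega

omit [Finite Q] [Fact p.Prime] in
/-- the centre never has prime index -/
theorem index_center_ne_prime (q : ℕ) (hq : q.Prime) :
    (Subgroup.center Q).index ≠ q := by
  intro h
  haveI : Fact q.Prime := ⟨hq⟩
  haveI : IsCyclic (Q ⧸ Subgroup.center Q) :=
    isCyclic_of_prime_card (p := q) (by rw [← Subgroup.index_eq_card]; exact h)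
  have hc := commutative_of_cyclic_center_quotient (QuotientGroup.mk' (Subgroup.center Q))
    (le_of_eq (QuotientGroup.ker_mk' _))
  have htop : Subgroup.center Q = ⊤ := by
    rw [eq_top_iff]
    intro x _
    rw [Subgroup.mem_center_iff]
    intro g
    exact hc g x
  rw [htop, Subgroup.index_top] at h
  exact hq.one_lt.ne h

/-- if the centre has index `p²` then the derived subgroup has order `p` -/
theorem card_comm_of_index_center (hidx : (Subgroup.center Q).index = p ^ 2) :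
    Nat.card (commutator Q) = p := by
  classical
  have hpp : p.Prime := Fact.out
  obtain ⟨Z, hZdef⟩ : ∃ Z : Subgroup Q, Z = Subgroup.center Q := ⟨_, rfl⟩
  rw [← hZdef] at hidx
  have hZc : ∀ z ∈ Z, ∀ g : Q, g * z = z * g := by
    intro z hz g
    rw [hZdef] at hz
    exact Subgroup.mem_center_iff.mp hz g
  have hZc' : ∀ z : Q, (∀ g : Q, g * z = z * g) → z ∈ Z := by
    intro z hz
    rw [hZdef]
    exact Subgroup.mem_center_iff.mpr hz
  have hcc : ∀ x y : Q, ⁅x, y⁆ ∈ Z := by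
    intro x y
    rw [hZdef]
    have hcardq : Nat.card (Q ⧸ Subgroup.center Q) = p ^ 2 := by
      rw [← Subgroup.index_eq_card, ← hZdef]; exact hidx
    have hcomm := IsPGroup.commutative_of_card_eq_prime_sq hcardq
    have h1 : (QuotientGroup.mk' (Subgroup.center Q)) ⁅x, y⁆ = 1 := by
      rw [map_commutatorElement]
      exact commutatorElement_eq_one_iff_commute.mpr (hcomm _ _)
    exact (QuotientGroup.eq_one_iff (N := Subgroup.center Q) _).mp h1
  have hmemC : ∀ g x : Q, x ∈ Subgroup.centralizer ({g} : Set Q) ↔ g * x = x * g := by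
    intro g x
    rw [Subgroup.mem_centralizer_iff]
    constructor
    · intro h; exact h g (Set.mem_singleton g)
    · intro h y hy; rw [Set.mem_singleton_iff.mp hy]; exact h
  have hidxp : ∀ H : Subgroup Q, Z ≤ H → H ≠ ⊤ → ¬ (H ≤ Z) → H.index = p := by
    intro H hZH hHt hHZ
    have hd : H.index ∣ p ^ 2 := by rw [← hidx]; exact Subgroup.index_dvd_of_le hZH
    obtain ⟨j, hj, hjj⟩ := (Nat.dvd_prime_pow hpp).mp hd
    have hj0 : j ≠ 0 := by
      intro h0; rw [h0, pow_zero] at hjj; exact hHt (Subgroup.index_eq_one.mp hjj)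
    have hj2 : j ≠ 2 := by
      intro h2
      rw [h2] at hjj
      have h3 := Subgroup.relIndex_mul_index hZH
      rw [hjj, hidx] at h3
      have h4 : Z.relIndex H = 1 :=
        Nat.eq_of_mul_eq_mul_right (pow_pos hpp.pos 2) (h3.trans (one_mul _).symm)
      exact hHZ (Subgroup.relIndex_eq_one.mp h4)
    have hj1 : j = 1 := by omega
    rw [hjj, hj1, pow_one]
  have hZnt : Z ≠ ⊤ := by
    intro h
    rw [h, Subgroup.index_top] at hidx
    have h1 : 1 < p ^ 2 := Nat.one_lt_pow (by norm_num) hpp.one_lt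
    omega
  obtain ⟨a, ha⟩ : ∃ a : Q, a ∉ Z := by
    by_contra hall
    push_neg at hall
    exact hZnt (eq_top_iff.mpr (fun x _ => hall x))
  have hZleC : ∀ g : Q, Z ≤ Subgroup.centralizer ({g} : Set Q) := by
    intro g z hz
    rw [hmemC]
    exact hZc z hz g
  have hCidx : ∀ g : Q, g ∉ Z → (Subgroup.centralizer ({g} : Set Q)).index = p := by
    intro g hg
    apply hidxp _ (hZleC g)
    · intro htop
      apply hg
      apply hZc'
      intro x
      have hx : x ∈ Subgroup.centralizer ({g} : Set Q) := by rw [htop]; exact Subgroup.mem_top x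
      exact ((hmemC g x).mp hx).symm
    · intro hle
      exact hg (hle ((hmemC g g).mpr rfl))
  have hAidx := hCidx a ha
  have hAnt : Subgroup.centralizer ({a} : Set Q) ≠ ⊤ := by
    intro h
    rw [h, Subgroup.index_top] at hAidx
    exact hpp.one_lt.ne hAidx
  obtain ⟨b, hb⟩ : ∃ b : Q, b ∉ Subgroup.centralizer ({a} : Set Q) := by
    by_contra hall
    push_neg at hall
    exact hAnt (eq_top_iff.mpr (fun x _ => hall x))
  have hbZ : b ∉ Z := fun h => hb (hZleC a h)
  have hBidx := hCidx b hbZ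
  have haA : a ∈ Subgroup.centralizer ({a} : Set Q) := (hmemC a a).mpr rfl
  have hMle : Z ⊔ Subgroup.zpowers a ≤ Subgroup.centralizer ({a} : Set Q) :=
    sup_le (hZleC a) (Subgroup.zpowers_le.mpr haA)
  have hMidx : (Z ⊔ Subgroup.zpowers a).index = p := by
    apply hidxp _ le_sup_left
    · intro htop
      rw [htop] at hMle
      exact hAnt (top_le_iff.mp hMle)
    · intro hle
      exact ha (hle ((le_sup_right : Subgroup.zpowers a ≤ _) (Subgroup.mem_zpowers a)))
  have hT : ∀ K : Subgroup Q, Z ≤ K → a ∈ K → b ∈ K → K = ⊤ := by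
    intro K hZK haK hbK
    have hAM : Subgroup.centralizer ({a} : Set Q) = Z ⊔ Subgroup.zpowers a := by
      rcases S3918.max_of_index_prime hpp _ _ hMidx hMle with h | h
      · exact h
      · exact absurd h hAnt
    have hAK : Subgroup.centralizer ({a} : Set Q) ≤ K := by
      rw [hAM]; exact sup_le hZK (Subgroup.zpowers_le.mpr haK)
    rcases S3918.max_of_index_prime hpp _ _ hAidx hAK with h | h
    · exact absurd (h ▸ hbK) hb
    · exact h
  have hmul : ∀ g x y : Q, ⁅x * y, g⁆ = ⁅x, g⁆ * ⁅y, g⁆ := by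
    intro g x y
    have hc := hZc _ (hcc y g)
    have e1 : ⁅x * y, g⁆ = x * ⁅y, g⁆ * x⁻¹ * ⁅x, g⁆ := by
      simp only [commutatorElement_def]; group
    rw [e1, hc x, mul_inv_cancel_right]
    exact (hc _).symm
  obtain ⟨φ, hφ⟩ : ∃ φ : Q → (Q →* Q), ∀ g x, φ g x = ⁅x, g⁆ :=
    ⟨fun g => MonoidHom.mk' (fun x => ⁅x, g⁆) (hmul g), fun g x => rfl⟩
  obtain ⟨I, hIdef⟩ : ∃ I : Subgroup Q, I = (φ b).range := ⟨_, rfl⟩
  have hbI : ∀ x : Q, ⁅x, b⁆ ∈ I := by
    intro x; rw [hIdef]; exact MonoidHom.mem_range.mpr ⟨x, hφ b x⟩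
  have hinvI : ∀ x y : Q, ⁅x, y⁆ ∈ I → ⁅y, x⁆ ∈ I := by
    intro x y h
    rw [← commutatorElement_inv]
    exact I.inv_mem h
  have hZI : ∀ z ∈ Z, ∀ y : Q, ⁅z, y⁆ ∈ I := by
    intro z hz y
    have h1 : ⁅z, y⁆ = 1 := commutatorElement_eq_one_iff_mul_comm.mpr (hZc z hz y).symm
    rw [h1]; exact I.one_mem
  have hKtop : ∀ y : Q, ⁅a, y⁆ ∈ I → ⁅b, y⁆ ∈ I → ∀ x : Q, ⁅x, y⁆ ∈ I := by
    intro y hay hby x
    have hK := hT (I.comap (φ y))
      (fun z hz => by rw [Subgroup.mem_comap, hφ]; exact hZI z hz y)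
      (by rw [Subgroup.mem_comap, hφ]; exact hay)
      (by rw [Subgroup.mem_comap, hφ]; exact hby)
    have hx : x ∈ I.comap (φ y) := by rw [hK]; exact Subgroup.mem_top x
    rw [Subgroup.mem_comap, hφ] at hx
    exact hx
  have haI : ∀ x : Q, ⁅x, a⁆ ∈ I := by
    apply hKtop a
    · rw [commutatorElement_self]; exact I.one_mem
    · exact hinvI _ _ (hbI a)
  have hall : ∀ x y : Q, ⁅x, y⁆ ∈ I := by
    intro x y
    exact hKtop y (hinvI _ _ (haI y)) (hinvI _ _ (hbI y)) x
  have heq : commutator Q = I := by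
    apply le_antisymm
    · rw [commutator_def, Subgroup.commutator_le]
      intro x _ y _
      exact hall x y
    · rw [hIdef]
      rintro _ ⟨x, rfl⟩
      rw [hφ, commutator_def]
      exact Subgroup.commutator_mem_commutator (Subgroup.mem_top x) (Subgroup.mem_top b)
  have hker : (φ b).ker = Subgroup.centralizer ({b} : Set Q) := by
    ext x
    rw [MonoidHom.mem_ker, hφ, hmemC, commutatorElement_eq_one_iff_mul_comm]
    exact eq_comm
  rw [heq, hIdef, ← Subgroup.index_ker, hker]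
  exact hBidx

end Cfsg.Agent.Lead.PLcs
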